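import Cfsg.Agent.Omega.FOne.QR.Def

/-!
# (F1), `R` of any size: atoms (helper792, for `QR/Front.lean`)

* `exists_atom` : an exact group `A ≠ 1` whose subgroups are sub-exact contains an atom;
* `add_mem_of_two`, `dich_of_two` : `(cmR R B).index = 2`;
* `card_cases` : a nontrivial 2-group has order 2 or at least 4.
-/

set_option autoImplicit false
set_option linter.unusedSectionVars false

namespace Cfsg.Agent.Omega.FOne.QR

open Subgroup Cfsg Cfsg.Agent.ZN

universe u v

variable {X : Type u} [Group X] {W : Type v} [AddCommGroup W] [DistribMulAction X W]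

/-- **Atoms exist**: an exact group `A ≠ 1`, all whose subgroups are sub-exact, contains an atom. -/
theorem exists_atom [Finite X] {R : AddSubgroup W} {A : Subgroup X} (hA : A ≠ ⊥)
    (hex : (cmR R A).index = Nat.card A) (hno : ∀ C ≤ A, Nat.card C ≤ (cmR R C).index) :
    ∃ B ≤ A, B ≠ ⊥ ∧ (cmR R B).index = Nat.card B ∧
      ∀ C : Subgroup X, C ≤ B → C ≠ ⊥ → C ≠ B → Nat.card C < (cmR R C).index := by
  classical
  have hex' : ∃ n : ℕ, ∃ C : Subgroup X, C ≤ A ∧ C ≠ ⊥ ∧ (cmR R C).index = Nat.card C ∧ Nat.card C = n :=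
    ⟨Nat.card A, A, le_rfl, hA, hex, rfl⟩
  obtain ⟨B, hBA, hB1, hBex, hBn⟩ := Nat.find_spec hex'
  refine ⟨B, hBA, hB1, hBex, fun C hCB hC1 hCne => ?_⟩
  refine lt_of_le_of_ne (hno C (hCB.trans hBA)) fun heq => ?_
  have h1 : Nat.card C < Nat.card B := by
    refine lt_of_le_of_ne (Nat.le_of_dvd Nat.card_pos (card_dvd_of_le hCB)) fun h => ?_
    exact hCne (Subgroup.eq_of_le_of_card_ge hCB h.ge)
  rw [hBn] at h1
  exact Nat.find_min hex' h1 ⟨C, hCB.trans hBA, hC1, heq.symm, rfl⟩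

/-- `(cmR R B).index = 2`: the sum of two vectors outside is inside. -/
theorem add_mem_of_two {R : AddSubgroup W} {B : Subgroup X} (hix : (cmR R B).index = 2) {v w : W}
    (hv : v ∉ cmR R B) (hw : w ∉ cmR R B) : v + w ∈ cmR R B :=
  (AddSubgroup.add_mem_iff_of_index_two hix).2 (iff_of_false hv hw)

/-- **The order-2 lemma**: if `B` has index 2 on `W / R`, every `b ∈ B` fixes one of `v`, `w`, `v + w` modulo `R`. -/
theorem dich_of_two {R : AddSubgroup W} {B : Subgroup X} (hix : (cmR R B).index = 2) {b : X} (hb : b ∈ B)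
    (v w : W) : b • v + v ∈ R ∨ b • w + w ∈ R ∨ b • (v + w) + (v + w) ∈ R := by
  by_cases hv : v ∈ cmR R B
  · exact Or.inl (hv b hb)
  · by_cases hw : w ∈ cmR R B
    · exact Or.inr (Or.inl (hw b hb))
    · exact Or.inr (Or.inr (add_mem_of_two hix hv hw b hb))

/-- the same for all elements of `B` at once -/
theorem dich_of_two' {R : AddSubgroup W} {B : Subgroup X} (hix : (cmR R B).index = 2) (v w : W) :
    v ∈ cmR R B ∨ w ∈ cmR R B ∨ v + w ∈ cmR R B := by
  by_cases hv : v ∈ cmR R B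
  · exact Or.inl hv
  · by_cases hw : w ∈ cmR R B
    · exact Or.inr (Or.inl hw)
    · exact Or.inr (Or.inr (add_mem_of_two hix hv hw))

/-- A nontrivial 2-group has order 2 or at least 4. -/
theorem card_cases [Finite X] {B : Subgroup X} (h2 : IsPGroup 2 B) (hne : B ≠ ⊥) :
    Nat.card B = 2 ∨ 4 ≤ Nat.card B := by
  have : Fact (Nat.Prime 2) := ⟨Nat.prime_two⟩
  obtain ⟨n, hn⟩ := IsPGroup.iff_card.1 h2
  rcases n with _ | _ | n
  · rw [pow_zero, Subgroup.card_eq_one] at hn
    exact absurd hn hne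
  · exact Or.inl (by rw [hn]; norm_num)
  · right
    rw [hn]
    calc 4 = 2 ^ 2 := by norm_num
      _ ≤ 2 ^ (n + 1 + 1) := Nat.pow_le_pow_right (by norm_num) (by omega)

/-- an involution of a subgroup of order 2 generates it -/
theorem exists_gen_of_two {B : Subgroup X} (h2 : Nat.card B = 2) : ∃ b ∈ B, b ≠ 1 ∧ ∀ x ∈ B, x = 1 ∨ x = b := by
  have hfin : Finite B := Nat.finite_of_card_ne_zero (by omega)
  have hne : B ≠ ⊥ := by
    rintro rfl
    rw [Subgroup.card_bot] at h2
    omega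
  obtain ⟨⟨b, hb⟩, hb1⟩ := ne_bot_iff_exists_ne_one.1 hne
  refine ⟨b, hb, fun h => hb1 (Subtype.ext h), fun x hx => ?_⟩
  by_contra hcon
  push Not at hcon
  have h3 : 3 ≤ Nat.card B := by
    classical
    haveI := Fintype.ofFinite B
    rw [Nat.card_eq_fintype_card]
    have : ({(1 : B), ⟨b, hb⟩, ⟨x, hx⟩} : Finset B).card = 3 := by
      rw [Finset.card_eq_three]
      refine ⟨1, ⟨b, hb⟩, ⟨x, hx⟩, fun h => hb1 h.symm, fun h => hcon.1 (congrArg Subtype.val h).symm,
        fun h => hcon.2 (congrArg Subtype.val h).symm, rfl⟩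
    rw [← this]
    exact Finset.card_le_univ _
  omega

end Cfsg.Agent.Omega.FOne.QR
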