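import Cfsg.Agent.Omega.FOne.QR.Def
import Cfsg.Agent.ZN.Facts

/-!
# (F1), the K-route for `R` of any size: the minimal overgroup, first part (helper69)

* `Bs`, `kk`, `sp` : `C_X(U / R)`, the preimage of `⟨z^X⟩`;
* `no_rel` : (ML) for `X ≤ H` on `⟨z^X⟩`;
* `SwR.dich` : an atom is trivial on `M_X` or `B ∩ K_X = 1`, `W = W_X + C(B)`;
* `SwR.le_o2_of_le` : an atom in `K_Q` is in `O₂(Q)`.
-/

set_option autoImplicit false
set_option linter.unusedSectionVars false

namespace Cfsg.Agent.Omega.FOne.QR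

open Subgroup Cfsg Cfsg.Agent.ZN
open Cfsg.Agent.Omega.ML.MinFrame (orb fxr)
open Cfsg.Agent.ClassTwoFusion.Quad (cv mem_cv)

universe u v

variable {H : Type u} [Group H] {W : Type v} [AddCommGroup W] [DistribMulAction H W]

/-- `R` is centralised by `H`, `W` has exponent 2 -/
structure Bs (H : Type u) [Group H] {W : Type v} [AddCommGroup W] [DistribMulAction H W] (R : AddSubgroup W) :
    Prop where
  two : ∀ w : W, w + w = 0
  fixR : ∀ h : H, ∀ r ∈ R, h • r = r

/-- `{h : [U, h] ≤ R}` -/
def kk {R : AddSubgroup W} (b : Bs H R) (U : AddSubgroup W) : Subgroup H where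
  carrier := {h | ∀ u ∈ U, h • u + u ∈ R}
  one_mem' := fun u _ => by rw [one_smul, b.two]; exact R.zero_mem
  mul_mem' := by
    intro g h hg hh u hu
    have e : (g * h) • u + u = g • (h • u + u) + (g • u + u) := by
      have h1 : g • u + g • u = 0 := b.two _
      rw [mul_smul, smul_add]
      calc g • h • u + u = g • h • u + (g • u + g • u) + u := by rw [h1, add_zero]
        _ = _ := by abel
    rw [e, b.fixR g _ (hh u hu)]
    exact R.add_mem (hh u hu) (hg u hu)
  inv_mem' := by
    intro h hh u hu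
    have e : h⁻¹ • u + u = h⁻¹ • (h • u + u) := by
      rw [smul_add, inv_smul_smul, add_comm]
    rw [e, b.fixR _ _ (hh u hu)]
    exact hh u hu

variable {R : AddSubgroup W} (b : Bs H R)

theorem mem_kk {U : AddSubgroup W} {h : H} : h ∈ kk b U ↔ ∀ u ∈ U, h • u + u ∈ R := Iff.rfl

include b in
/-- the elements fixed by `h` modulo `R` -/
theorem fix_mod {h : H} {w : W} : h • w + w ∈ R ↔ ∃ r ∈ R, h • w = w + r := by
  constructor
  · intro hh
    refine ⟨_, hh, ?_⟩
    rw [add_left_comm, b.two, add_zero]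
  · rintro ⟨r, hr, e⟩
    rw [e, add_right_comm, b.two, zero_add]
    exact hr

theorem kk_conj {U : AddSubgroup W} {x k : H} (hU : ∀ u ∈ U, x⁻¹ • u ∈ U) (hk : k ∈ kk b U) :
    x * k * x⁻¹ ∈ kk b U := by
  intro u hu
  have e : (x * k * x⁻¹) • u + u = x • (k • x⁻¹ • u + x⁻¹ • u) := by
    rw [smul_add, smul_inv_smul, mul_smul, mul_smul]
  rw [e, b.fixR _ _ (hk _ (hU u hu))]
  exact hk _ (hU u hu)

/-- the preimage of `⟨z^X⟩` -/
def sp (R : AddSubgroup W) (X : Subgroup H) (z : W) : AddSubgroup W :=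
  AddSubgroup.closure ((R : Set W) ∪ {w | ∃ x ∈ X, w = x • z})

theorem le_sp (R : AddSubgroup W) (X : Subgroup H) (z : W) : R ≤ sp R X z := fun _ hr =>
  AddSubgroup.subset_closure (Or.inl hr)

theorem smul_mem_sp' (R : AddSubgroup W) {X : Subgroup H} (z : W) {x : H} (hx : x ∈ X) : x • z ∈ sp R X z :=
  AddSubgroup.subset_closure (Or.inr ⟨x, hx, rfl⟩)

theorem mem_sp (R : AddSubgroup W) (X : Subgroup H) (z : W) : z ∈ sp R X z := by
  have := smul_mem_sp' R z X.one_mem
  rwa [one_smul] at this

theorem sp_le {U : AddSubgroup W} {X : Subgroup H} {z : W} (hR : R ≤ U) (hU : ∀ x ∈ X, x • z ∈ U) : sp R X z ≤ U := by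
  rw [sp, AddSubgroup.closure_le]
  rintro w (hw | ⟨x, hx, rfl⟩)
  · exact hR hw
  · exact hU x hx

include b in
theorem smul_mem_sp {X : Subgroup H} {z : W} {x : H} (hx : x ∈ X) {u : W} (hu : u ∈ sp R X z) :
    x • u ∈ sp R X z := by
  have h1 : sp R X z ≤ (sp R X z).comap (DistribSMul.toAddMonoidHom W x) := by
    refine sp_le ?_ ?_
    · intro r hr
      change x • r ∈ sp R X z
      rw [b.fixR x r hr]
      exact le_sp R X z hr
    · intro y hy
      change x • y • z ∈ sp R X z
      rw [← mul_smul]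
      exact smul_mem_sp' R z (X.mul_mem hx hy)
  exact h1 hu

theorem mem_kk_sp {X : Subgroup H} {z : W} {h : H} : h ∈ kk b (sp R X z) ↔ ∀ x ∈ X, h • x • z + x • z ∈ R := by
  constructor
  · intro hh x hx
    exact hh _ (smul_mem_sp' R z hx)
  · intro hh u hu
    let U : AddSubgroup W :=
      { carrier := {w | h • w + w ∈ R}
        zero_mem' := by
          change h • (0 : W) + 0 ∈ R
          rw [smul_zero, add_zero]; exact R.zero_mem
        add_mem' := by
          intro v w hv hw
          change h • (v + w) + (v + w) ∈ R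
          rw [smul_add, add_add_add_comm]
          exact R.add_mem hv hw
        neg_mem' := by
          intro w hw
          change h • (-w) + -w ∈ R
          rw [smul_neg, ← neg_add]
          exact R.neg_mem hw }
    have h1 : sp R X z ≤ U := by
      refine sp_le ?_ hh
      intro r hr
      change h • r + r ∈ R
      rw [b.fixR h r hr, b.two]
      exact R.zero_mem
    exact h1 hu

theorem kk_norm {X : Subgroup H} {z : W} {x k : H} (hx : x ∈ X) (hk : k ∈ kk b (sp R X z)) :
    x * k * x⁻¹ ∈ kk b (sp R X z) :=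
  kk_conj b (fun _ hu => smul_mem_sp b (X.inv_mem hx) hu) hk

/-- **(ML) for `X ≤ H` on the submodule generated by `z` modulo `R`** -/
theorem no_rel (hML : ML.Final.MLK.{u, v}) [Finite H] [Finite W] (hK : IsKGroupWith IsKnownSimple' H)
    {X T Q A : Subgroup H} {z : W} (TX : T ≤ X) (T2 : IsPGroup 2 T) (syl : ¬ 2 ∣ T.relIndex X)
    (Tz : ∀ t ∈ T, t • z + z ∈ R) (QX : Q ≤ X) (Q2 : IsPGroup 2 Q) (Qz : ∀ q ∈ Q, q • z + z ∈ R)
    (Qn : ∀ x ∈ X, x • z + z ∈ R → ∀ q ∈ Q, x * q * x⁻¹ ∈ Q) (AQ : A ≤ Q) (sq : ∀ a ∈ A, a * a = 1) :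
    (kk b (sp R X z)).relIndex A ≤ (cmR R A).relIndex (sp R X z) := by
  classical
  letI := act (X := X) (R := R) fun x r hr => b.fixR x r hr
  have hfin : Finite (MR R) := Finite.of_surjective (mkH R) (mkH_surj R)
  have hsm : ∀ (x : X) (w : W), x • mk R w = mk R ((x : H) • w) := fun _ _ => rfl
  have AX : A ≤ X := AQ.trans QX
  have D : ML.Final.Dat (C := X) (V := MR R) (T.subgroupOf X) (Q.subgroupOf X) (A.subgroupOf X) (mk R z) := by
    refine ⟨?_, T2.of_equiv (subgroupOfEquivOfLe TX).symm, syl, ?_, ?_, ?_, ?_, ?_, ?_⟩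
    · intro v
      obtain ⟨w, rfl⟩ := mk_surj v
      rw [← mk_add, b.two, mk_zero]
    · intro t ht
      rw [hsm, mk_eq' b.two]
      exact Tz _ ht
    · intro q hq
      obtain ⟨n, hn⟩ := Q2 ⟨q, hq⟩
      refine ⟨n, fun v => ?_⟩
      have h2 : (q : H) ^ 2 ^ n = 1 := congrArg Subtype.val hn
      have h1 : q ^ 2 ^ n = 1 := Subtype.ext h2
      rw [h1, one_smul]
    · intro q hq
      rw [hsm, mk_eq' b.two]
      exact Qz _ hq
    · intro g hg q hq
      rw [hsm, mk_eq' b.two] at hg
      exact ⟨g * q * g⁻¹, Qn g g.2 hg q hq, fun _ => rfl⟩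
    · intro a ha
      exact ⟨a, AQ ha, fun _ => rfl⟩
    · intro a ha v
      have h1 : a * a = 1 := Subtype.ext (sq a ha)
      rw [← mul_smul, h1, one_smul]
  have key := hML.act (ML.Final.kgroup_of_surj hK X (MonoidHom.id X) fun x => ⟨x, rfl⟩) D
  have horb : orb (⊤ : Subgroup X) (mk R z) = (AddSubgroup.toSubgroup (sp R X z)).map (mkH R) := by
    apply le_antisymm
    · rw [orb, closure_le]
      rintro _ ⟨g, -, rfl⟩
      exact ⟨Multiplicative.ofAdd ((g : H) • z), smul_mem_sp' R z g.2, rfl⟩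
    · rw [map_le_iff_le_comap]
      intro w hw
      let U : AddSubgroup W :=
        { carrier := {w | mk R w ∈ orb (⊤ : Subgroup X) (mk R z)}
          zero_mem' := by
            change mk R 0 ∈ orb (⊤ : Subgroup X) (mk R z)
            rw [mk_zero]; exact one_mem _
          add_mem' := by
            intro v w hv hw
            change mk R (v + w) ∈ orb (⊤ : Subgroup X) (mk R z)
            rw [mk_add]
            exact mul_mem hv hw
          neg_mem' := by
            intro w hw
            have : mk R (-w) = (mk R w)⁻¹ := rfl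
            change mk R (-w) ∈ orb (⊤ : Subgroup X) (mk R z)
            rw [this]
            exact inv_mem hw }
      have h1 : sp R X z ≤ U := by
        refine sp_le ?_ ?_
        · intro r hr
          change mk R r ∈ orb (⊤ : Subgroup X) (mk R z)
          rw [mk_one.2 hr]; exact one_mem _
        · intro x hx
          exact subset_closure ⟨⟨x, hx⟩, mem_top _, rfl⟩
      exact h1 hw
  have hcv : (cv (MR R) ((A.subgroupOf X : Subgroup X) : Set X)).comap (mkH R) =
      AddSubgroup.toSubgroup (cmR R A) := by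
    ext w
    rw [mem_comap, mem_cv]
    change (∀ a ∈ (A.subgroupOf X : Set X), a • mk R (Multiplicative.toAdd w) = mk R (Multiplicative.toAdd w)) ↔
      Multiplicative.toAdd w ∈ cmR R A
    rw [mem_cmR]
    constructor
    · intro h3 a ha
      have h4 := h3 ⟨a, AX ha⟩ ha
      rw [hsm, mk_eq' b.two] at h4
      exact h4
    · intro h3 a ha
      rw [hsm, mk_eq' b.two]
      exact h3 _ ha
  have hfx : fxr X (orb (⊤ : Subgroup X) (mk R z)) = (kk b (sp R X z)).subgroupOf X := by
    ext x
    rw [mem_subgroupOf, horb]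
    constructor
    · intro hx u hu
      have h1 := hx (mk R u) ⟨Multiplicative.ofAdd u, hu, rfl⟩
      rw [hsm, mk_eq' b.two] at h1
      exact h1
    · rintro hx _ ⟨u, hu, rfl⟩
      change x • mk R (Multiplicative.toAdd u) = mk R (Multiplicative.toAdd u)
      rw [hsm, mk_eq' b.two]
      exact hx _ hu
  rw [hfx, relIndex_subgroupOf AX, horb, ← relIndex_comap, hcv] at key
  exact key

end Cfsg.Agent.Omega.FOne.QR
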