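import Cfsg.Agent.Omega.ML.Final

/-!
# (F1), the K-route for `R` of any size (helper69)

`X` acts on the 𝔽₂-space `W` and centralises `R ≤ W`, `C_W(T) ≤ R`; `M = W / R` is faithful.

* `cmR R B` : the preimage of `C_{W/R}(B)`;
* `FsR R θ T B` : THE FAITHFUL SECTION, additive form: `R`, `θ` instead of `{0, y}`, `θ`;
* `SwR R θ T N`, `AtR R N B` : the hypotheses of the reduction.
-/

set_option autoImplicit false
set_option linter.unusedSectionVars false

namespace Cfsg.Agent.Omega.FOne.QR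

open Subgroup Cfsg Cfsg.Agent.ZN

universe u v

section

variable {X : Type u} [Group X] {W : Type v} [AddCommGroup W] [DistribMulAction X W]

/-- the preimage in `W` of the fixed points of `B` on `W / R` -/
def cmR (R : AddSubgroup W) (B : Subgroup X) : AddSubgroup W where
  carrier := {w | ∀ b ∈ B, b • w + w ∈ R}
  zero_mem' := fun b _ => by rw [smul_zero, add_zero]; exact R.zero_mem
  add_mem' := by
    intro v w hv hw b hb
    rw [smul_add, add_add_add_comm]
    exact R.add_mem (hv b hb) (hw b hb)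
  neg_mem' := by
    intro w hw b hb
    rw [smul_neg, ← neg_add]
    exact R.neg_mem (hw b hb)

theorem sub_eq_add_of {W : Type v} [AddCommGroup W] (two : ∀ w : W, w + w = 0) (a b : W) : a - b = a + b := by
  rw [sub_eq_add_neg, neg_eq_of_add_eq_zero_left (two b)]

theorem mem_cmR {R : AddSubgroup W} {B : Subgroup X} {w : W} : w ∈ cmR R B ↔ ∀ b ∈ B, b • w + w ∈ R := Iff.rfl

theorem cmR_anti {R : AddSubgroup W} {B C : Subgroup X} (h : C ≤ B) : cmR R B ≤ cmR R C := fun _ hw b hb => hw b (h hb)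

/-- **The faithful section**, additive form. -/
structure FsR (R : AddSubgroup W) (θ : W) (T B : Subgroup X) : Prop where
  known : IsKGroupWith IsKnownSimple' X
  finX : Finite X
  finW : Finite W
  two : ∀ w : W, w + w = 0
  fixR : ∀ x : X, ∀ r ∈ R, x • r = r
  faith : ∀ x : X, (∀ w : W, x • w + w ∈ R) → x = 1
  T2 : IsPGroup 2 T
  syl : ¬ 2 ∣ T.index
  fixT : ∀ w : W, (∀ t ∈ T, t • w = w) → w ∈ R
  θR : θ ∉ R
  Tθ : ∀ t ∈ T, t • θ + θ ∈ R
  gen : ∀ U : AddSubgroup W, R ≤ U → (∀ x : X, x • θ ∈ U) → U = ⊤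
  BT : B ≤ T
  sq : ∀ b ∈ B, b * b = 1
  quad : ∀ a ∈ B, ∀ b ∈ B, ∀ w : W, a • (b • w + w) + (b • w + w) ∈ R
  four : 4 ≤ Nat.card B
  exact : (cmR R B).index = Nat.card B
  atom : ∀ C : Subgroup X, C ≤ B → C ≠ ⊥ → C ≠ B → Nat.card C < (cmR R C).index
  low : ∀ Q : Subgroup X, T ≤ Q → Q ≠ ⊤ → B ≤ o2 Q

/-- The hypotheses on `(H, W, R, θ, T, N)`. -/
structure SwR (R : AddSubgroup W) (θ : W) (T N : Subgroup X) : Prop where
  known : IsKGroupWith IsKnownSimple' X
  finX : Finite X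
  finW : Finite W
  two : ∀ w : W, w + w = 0
  fixR : ∀ x : X, ∀ r ∈ R, x • r = r
  faith : ∀ x : X, (∀ w : W, x • w + w ∈ R) → x = 1
  T2 : IsPGroup 2 T
  syl : ¬ 2 ∣ T.index
  fixT : ∀ w : W, (∀ t ∈ T, t • w = w) → w ∈ R
  θR : θ ∉ R
  Tθ : ∀ t ∈ T, t • θ + θ ∈ R
  gen : ∀ U : AddSubgroup W, R ≤ U → (∀ x : X, x • θ ∈ U) → U = ⊤
  N2 : IsPGroup 2 N
  Nθ : ∀ n ∈ N, n • θ + θ ∈ R
  Nn : ∀ x : X, x • θ + θ ∈ R → ∀ n ∈ N, x * n * x⁻¹ ∈ N

/-- an atom of order at least 4 in `N` -/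
structure AtR (R : AddSubgroup W) (N B : Subgroup X) : Prop where
  BN : B ≤ N
  sq : ∀ b ∈ B, b * b = 1
  quad : ∀ a ∈ B, ∀ b ∈ B, ∀ w : W, a • (b • w + w) + (b • w + w) ∈ R
  four : 4 ≤ Nat.card B
  exact : (cmR R B).index = Nat.card B
  atom : ∀ C : Subgroup X, C ≤ B → C ≠ ⊥ → C ≠ B → Nat.card C < (cmR R C).index

end

/-! ### the action on `W / R`, multiplicatively -/

section quo

variable {X : Type u} [Group X] {W : Type v} [AddCommGroup W] [DistribMulAction X W]

/-- `W / R`, written multiplicatively -/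
abbrev MR (R : AddSubgroup W) : Type v := Multiplicative (W ⧸ R)

/-- the projection -/
def mk (R : AddSubgroup W) (w : W) : MR R := Multiplicative.ofAdd (QuotientAddGroup.mk w)

theorem mk_add (R : AddSubgroup W) (a b : W) : mk R (a + b) = mk R a * mk R b := rfl

theorem mk_zero (R : AddSubgroup W) : mk R 0 = 1 := rfl

theorem mk_surj {R : AddSubgroup W} (v : MR R) : ∃ w, mk R w = v := by
  obtain ⟨w, hw⟩ := QuotientAddGroup.mk_surjective (Multiplicative.toAdd v)
  exact ⟨w, congrArg Multiplicative.ofAdd hw⟩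

theorem mk_eq {R : AddSubgroup W} {a b : W} : mk R a = mk R b ↔ a - b ∈ R := by
  have h1 : mk R a = mk R b ↔ (QuotientAddGroup.mk a : W ⧸ R) = QuotientAddGroup.mk b := Iff.rfl
  rw [h1, QuotientAddGroup.eq, ← neg_mem_iff]
  have e : -(-a + b) = a - b := by abel
  rw [e]

theorem mk_eq' (two : ∀ w : W, w + w = 0) {R : AddSubgroup W} {a b : W} : mk R a = mk R b ↔ a + b ∈ R := by
  rw [mk_eq, sub_eq_add_of two]

theorem mk_one {R : AddSubgroup W} {a : W} : mk R a = 1 ↔ a ∈ R := by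
  rw [← mk_zero, mk_eq, sub_zero]

/-- the projection as a homomorphism -/
def mkH (R : AddSubgroup W) : Multiplicative W →* MR R := AddMonoidHom.toMultiplicative (QuotientAddGroup.mk' R)

theorem mkH_apply (R : AddSubgroup W) (w : W) : mkH R (Multiplicative.ofAdd w) = mk R w := rfl

theorem mkH_surj (R : AddSubgroup W) : Function.Surjective (mkH R) := fun v => by
  obtain ⟨w, hw⟩ := mk_surj v
  exact ⟨Multiplicative.ofAdd w, hw⟩

/-- `X` acts on `W / R` -/
@[reducible] def act {R : AddSubgroup W} (hR : ∀ x : X, ∀ r ∈ R, x • r = r) : MulDistribMulAction X (MR R) where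
  smul x v := Multiplicative.ofAdd (QuotientAddGroup.map R R (DistribSMul.toAddMonoidHom W x)
    (fun r hr => by
      rw [AddSubgroup.mem_comap, DistribSMul.toAddMonoidHom_apply, hR x r hr]; exact hr) (Multiplicative.toAdd v))
  one_smul v := by
    obtain ⟨w, rfl⟩ := mk_surj v
    change mk R ((1 : X) • w) = mk R w
    rw [one_smul]
  mul_smul g h v := by
    obtain ⟨w, rfl⟩ := mk_surj v
    change mk R ((g * h) • w) = mk R (g • h • w)
    rw [mul_smul]
  smul_mul g v w := by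
    obtain ⟨v, rfl⟩ := mk_surj v
    obtain ⟨w, rfl⟩ := mk_surj w
    change mk R (g • (v + w)) = mk R (g • v + g • w)
    rw [smul_add]
  smul_one g := by
    change mk R (g • (0 : W)) = mk R 0
    rw [smul_zero]

/-- an action of `X` on `W / R` which is the natural one -/
structure IsA (X : Type u) [Group X] {W : Type v} [AddCommGroup W] [DistribMulAction X W] (R : AddSubgroup W)
    [MulDistribMulAction X (MR R)] : Prop where
  smul : ∀ (x : X) (w : W), x • mk R w = mk R (x • w)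

theorem isA_act {R : AddSubgroup W} (hR : ∀ x : X, ∀ r ∈ R, x • r = r) : @IsA X _ W _ _ R (act hR) :=
  @IsA.mk X _ W _ _ R (act hR) fun _ _ => rfl

end quo

end Cfsg.Agent.Omega.FOne.QR
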