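import Cfsg.Agent.Omega.FOne.QR.Min
import Cfsg.Agent.Omega.NO3S.FarB.FOneR

/-!
# (F1), the K-route for `R` of any size: the front (helper232; copy of helper81's `FOne.Q.Abs` at the `R`-level)

* `Front.exists_atom` : an exact subgroup contains an atom;
* `Front.tv_of_index_two` : an exact subgroup of order 2 consists of transvections modulo `R`;
* **`front`** : `RDat` (every stage) ⟹ `SwR`, `AtR` for the submodule generated by one vector of `lam`.
-/

set_option autoImplicit false
set_option linter.unusedSectionVars false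

namespace Cfsg.Agent.Omega.FOne.QR

open Subgroup Cfsg
open Cfsg.Agent.ClassTwoFusion.Quad (cv mem_cv)
open Cfsg.Agent.Omega.NO3S.FarQ (FlagK Exact zm fixer)
open Cfsg.Agent.Omega.NO3S.FarQ.FOneAbs (Dat)
open Cfsg.Agent.Omega.NO3S.FarB (RDat)
open Cfsg.Agent.Omega.ML.MinFrame (orb fxr)
open Cfsg.Agent.ZN (o2)
open Cfsg.Agent.MinSimple.VModule (o2_le o2_isPGroup le_normalizer_o2)

universe u v

section pure

variable {H : Type u} [Group H] {W : Type v} [AddCommGroup W] [DistribMulAction H W] {R : AddSubgroup W}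

/-- An exact subgroup `≠ 1` contains an atom. -/
theorem Front.exists_atom [Finite H] {A : Subgroup H} (A1 : A ≠ ⊥) (hex : (cmR R A).index = Nat.card A)
    (hno : ∀ C : Subgroup H, C ≤ A → Nat.card C ≤ (cmR R C).index) :
    ∃ B : Subgroup H, B ≤ A ∧ B ≠ ⊥ ∧ (cmR R B).index = Nat.card B ∧
      ∀ C : Subgroup H, C ≤ B → C ≠ ⊥ → C ≠ B → Nat.card C < (cmR R C).index := by
  have hfin : Finite (Subgroup H) := inferInstance
  obtain ⟨B, hB⟩ := (Set.toFinite {B : Subgroup H | B ≤ A ∧ B ≠ ⊥ ∧ (cmR R B).index = Nat.card B}).exists_minimal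
    ⟨A, le_rfl, A1, hex⟩
  obtain ⟨h1, h2, h3⟩ := hB.prop
  refine ⟨B, h1, h2, h3, fun C hC hC1 hCB => lt_of_le_of_ne (hno C (hC.trans h1)) fun h4 => hCB ?_⟩
  exact le_antisymm hC (hB.le_of_le (y := C) ⟨hC.trans h1, hC1, h4.symm⟩ hC)

/-- `|W / R : C(B)| = 2` : transvections modulo `R` -/
theorem Front.tv_of_index_two {B : Subgroup H} (h2 : (cmR R B).index = 2) {b : H} (hb : b ∈ B) (v w : W) :
    b • v + v ∈ R ∨ b • w + w ∈ R ∨ b • (v + w) + (v + w) ∈ R := by
  by_cases hv : v ∈ cmR R B
  · exact Or.inl (hv b hb)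
  · by_cases hw : w ∈ cmR R B
    · exact Or.inr (Or.inl (hw b hb))
    · refine Or.inr (Or.inr ?_)
      have h : v + w ∈ cmR R B := (AddSubgroup.add_mem_iff_of_index_two h2).2 ⟨fun h => absurd h hv, fun h => absurd h hw⟩
      exact h b hb

end pure

section main

variable {H W M : Type u} [Group H] [CommGroup W] [MulDistribMulAction H W] [CommGroup M]
  [MulDistribMulAction H M]

/-- the action on `U`, additively -/
@[reducible] def actA {U : Subgroup W} (hU : ∀ h : H, ∀ w ∈ U, h • w ∈ U) : DistribMulAction H (Additive U) where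
  smul h w := Additive.ofMul ⟨h • ((Additive.toMul w : U) : W), hU h _ (Additive.toMul w).2⟩
  one_smul w := congrArg Additive.ofMul (Subtype.ext (one_smul H ((Additive.toMul w : U) : W)))
  mul_smul g h w := congrArg Additive.ofMul (Subtype.ext (mul_smul g h ((Additive.toMul w : U) : W)))
  smul_zero g := congrArg Additive.ofMul (Subtype.ext (smul_one g))
  smul_add g v w := congrArg Additive.ofMul (Subtype.ext (smul_mul' g ((Additive.toMul v : U) : W)
    ((Additive.toMul w : U) : W)))

/-- **The front**: `RDat` at any stage gives the situation of the reduction. -/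
theorem front (hML : ML.Final.MLK.{u, u}) {T A : Subgroup H} {V R : Subgroup W} {π : W →* M}
    (P : RDat T A V R π) :
    ∃ (W' : Type u) (_ : AddCommGroup W') (_ : DistribMulAction H W') (R' : AddSubgroup W') (θ : W')
      (N B : Subgroup H), SwR R' θ T N ∧ AtR R' N B := by
  classical
  have hfW := P.finW
  have D := P.dat
  have F := P.flag
  have hfH := F.finH
  have hfM := F.finM
  -- `R` is centralised, `π` is equivariant
  have hcm : ∀ (x : H) (w : W), (x • w) * w⁻¹ ∈ R ↔ x • π w = π w := by
    intro x w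
    rw [← D.ker, map_mul, map_inv, D.equi, mul_inv_eq_one]
  have hlm : ∀ v ∈ V, π v ∈ V.map π := fun v hv => mem_map_of_mem π hv
  have hlin : ∀ (h : H) (v : W), v ∈ V → v ∉ R → h • π v = π v → ∀ b ∈ V.map π, h • b = b := by
    intro h v hv hvR e
    exact F.lin _ (hlm v hv) (fun e1 => hvR ((D.ker v).1 e1)) h e
  -- an element fixing one vector of `lam ^ g` fixes all of them
  have hlin' : ∀ (x g : H) (v : W), v ∈ V → v ∉ R → x • g • π v = g • π v → ∀ b ∈ V.map π, x • g • b = g • b := by
    intro x g v hv hvR e b hb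
    have h1 : (g⁻¹ * x * g) • π v = π v := by
      rw [mul_smul, mul_smul, e, inv_smul_smul]
    have h2 := hlin _ v hv hvR h1 b hb
    rw [mul_smul, mul_smul, inv_smul_eq_iff] at h2
    exact h2
  have htriv : ∀ x : H, (∀ g : H, ∀ b ∈ V.map π, x • g • b = g • b) → x = 1 := by
    intro x hx
    refine F.faith x fun m => ?_
    let N : Subgroup M :=
      { carrier := {m | x • m = m}
        one_mem' := smul_one x
        mul_mem' := fun {a b} ha hb => by
          change x • (a * b) = a * b
          rw [smul_mul', ha, hb]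
        inv_mem' := fun {a} ha => by
          change x • a⁻¹ = a⁻¹
          rw [smul_inv', ha] }
    have hN := F.gen N fun h a ha => hx h a ha
    have : m ∈ N := by rw [hN]; exact mem_top m
    exact this
  -- a vector `a ∈ V - R`
  obtain ⟨t₀, ht₀, a, ha, hta⟩ := D.ne
  have haR : a ∉ R := fun h => hta (D.fixR t₀ a h)
  -- the module of `a`
  set Ma : Subgroup M := orb (⊤ : Subgroup H) (π a) with hMa
  set U : Subgroup W := Ma.comap π with hU
  have hMaH : ∀ (h : H), ∀ m ∈ Ma, h • m ∈ Ma := by
    intro h m hm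
    have h1 : Ma ≤ Ma.comap (MulDistribMulAction.toMonoidHom M h) := by
      rw [hMa, orb, closure_le]
      rintro _ ⟨g, -, rfl⟩
      change h • g • π a ∈ orb (⊤ : Subgroup H) (π a)
      rw [← mul_smul]
      exact subset_closure ⟨h * g, mem_top _, rfl⟩
    exact h1 hm
  have hUH : ∀ (h : H), ∀ w ∈ U, h • w ∈ U := by
    intro h w hw
    rw [hU, mem_comap, D.equi]
    exact hMaH h _ hw
  have hRU : R ≤ U := by
    intro r hr
    rw [hU, mem_comap, (D.ker r).2 hr]
    exact one_mem _
  have hgaU : ∀ h : H, h • a ∈ U := by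
    intro h
    rw [hU, mem_comap, D.equi]
    exact subset_closure ⟨h, mem_top _, rfl⟩
  have haU : a ∈ U := by
    have := hgaU 1
    rwa [one_smul] at this
  set lam := V.map π with hlam
  -- the additive module
  let act1 : DistribMulAction H (Additive U) := actA hUH
  let ι : Additive U → W := fun w => ((Additive.toMul w : U) : W)
  have ιadd : ∀ v w, ι (v + w) = ι v * ι w := fun _ _ => rfl
  have ιsm : ∀ (h : H) w, ι (h • w) = h • ι w := fun _ _ => rfl
  have ιU : ∀ w, ι w ∈ U := fun w => (Additive.toMul w : U).2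
  have ιinj : ∀ v w, ι v = ι w → v = w := fun v w h => congrArg Additive.ofMul (Subtype.ext h : Additive.toMul v = Additive.toMul w)
  let mk : ∀ w : W, w ∈ U → Additive U := fun w hw => Additive.ofMul ⟨w, hw⟩
  have ιmk : ∀ w hw, ι (mk w hw) = w := fun _ _ => rfl
  let R' : AddSubgroup (Additive U) := Subgroup.toAddSubgroup (R.subgroupOf U)
  have hR' : ∀ w, w ∈ R' ↔ ι w ∈ R := fun w => Iff.rfl
  have hinv : ∀ w : W, w⁻¹ = w := fun w => inv_eq_of_mul_eq_one_left (P.sq w)
  -- `x • w + w ∈ R'`
  have hcr : ∀ (x : H) (w : Additive U), x • w + w ∈ R' ↔ x • π (ι w) = π (ι w) := by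
    intro x w
    rw [hR', ιadd, ιsm, ← hcm, hinv]
  let θ : Additive U := mk a haU
  -- the group `N`
  let N : Subgroup H := o2 (fixer lam)
  have hAN : A ≤ N := P.ex.le
  have hgen : ∀ X : AddSubgroup (Additive U), R' ≤ X → (∀ x : H, x • θ ∈ X) → X = ⊤ := by
    intro X hRX hX
    rw [eq_top_iff]
    rintro w -
    let Y : Subgroup M :=
      { carrier := {m | ∃ u ∈ X, π (ι u) = m}
        one_mem' := ⟨0, X.zero_mem, by
          change π ((1 : U) : W) = 1
          rw [Subgroup.coe_one, map_one]⟩
        mul_mem' := by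
          rintro _ _ ⟨u, hu, rfl⟩ ⟨v, hv, rfl⟩
          exact ⟨u + v, X.add_mem hu hv, by rw [ιadd, map_mul]⟩
        inv_mem' := by
          rintro _ ⟨u, hu, rfl⟩
          exact ⟨u, hu, by rw [← map_inv, hinv]⟩ }
    have h1 : Ma ≤ Y := by
      rw [hMa, orb, closure_le]
      rintro _ ⟨g, -, rfl⟩
      exact ⟨g • θ, hX g, by rw [ιsm, D.equi]; rfl⟩
    obtain ⟨u, hu, e⟩ := h1 (ιU w)
    have h2 : w + u ∈ R' := by
      rw [hR', ιadd, ← D.ker, map_mul, e, ← map_mul, P.sq, map_one]
    have h3 := X.add_mem (hRX h2) hu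
    have h4 : w + u + u = w := by
      apply ιinj
      rw [ιadd, ιadd, mul_assoc, P.sq, mul_one]
    rwa [h4] at h3
  have S : SwR R' θ T N :=
    { known := P.known
      finX := hfH
      finW := inferInstance
      two := fun w => ιinj _ _ (P.sq (ι w))
      fixR := fun x r hr => ιinj _ _ (D.fixR x _ hr)
      faith := by
        intro x hx
        refine htriv x fun g b hb => hlin' x g a ha haR ?_ b hb
        have h1 := (hcr x (g • θ)).1 (hx _)
        rwa [ιsm, D.equi] at h1
      T2 := F.two
      syl := F.ndvd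
      fixT := by
        intro w hw
        exact P.cent _ fun t ht => congrArg ι (hw t ht)
      θR := haR
      Tθ := by
        intro t ht
        rw [hcr]
        exact F.fix t ht _ (hlm a ha)
      gen := hgen
      N2 := o2_isPGroup _
      Nθ := by
        intro n hn
        rw [hcr]
        exact o2_le _ hn _ (hlm a ha)
      Nn := by
        intro x hx n hn
        rw [hcr] at hx
        have h2 : x ∈ (fixer lam : Subgroup H) := hlin x a ha haR hx
        exact (mem_normalizer_iff.1 (le_normalizer_o2 _ h2) n).1 hn }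
  -- `A` is exact
  let f : Multiplicative (Additive U) →* M := MonoidHom.mk' (fun w => π (ι (Multiplicative.toAdd w))) fun v w => by
    rw [toAdd_mul, ιadd, map_mul]
  have hfr : f.range = Ma := by
    ext m
    constructor
    · rintro ⟨w, rfl⟩
      exact ιU (Multiplicative.toAdd w)
    · intro hm
      obtain ⟨w, rfl⟩ := P.surj m
      exact ⟨Multiplicative.ofAdd (mk w hm), rfl⟩
  have hcmA : AddSubgroup.toSubgroup (cmR R' A) = (zm M A).comap f := by
    ext w
    rw [mem_comap]
    change Multiplicative.toAdd w ∈ cmR R' A ↔ f w ∈ cv M (A : Set H)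
    rw [mem_cmR, mem_cv]
    exact forall₂_congr fun x _ => hcr x _
  have hrel : (cmR R' A).index = (zm M A).relIndex Ma := by
    have h1 : (AddSubgroup.toSubgroup (cmR R' A)).index = (zm M A).relIndex Ma := by
      rw [hcmA, index_comap, hfr]
    exact h1
  have hno : ∀ C : Subgroup H, C ≤ A → Nat.card C ≤ (cmR R' C).index := fun C hC =>
    S.no hML (hC.trans hAN) fun c hc => P.ex.sq c (hC hc)
  have hrs : (zm M A).relIndex (Ma ⊔ zm M A) = (zm M A).relIndex Ma := relIndex_sup_right _ _
  have hmul : (zm M A).relIndex (Ma ⊔ zm M A) * (Ma ⊔ zm M A).index = (zm M A).index :=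
    relIndex_mul_index le_sup_right
  rw [hrs, ← hrel] at hmul
  have hone : (Ma ⊔ zm M A).index = 1 := by
    have h1 := P.ex.card
    have h2 : 0 < (Ma ⊔ zm M A).index := Nat.pos_of_ne_zero index_ne_zero_of_finite
    have h0 := hno A le_rfl
    by_contra h3
    have h4 : 2 ≤ (Ma ⊔ zm M A).index := by omega
    have h5 : (cmR R' A).index * 2 ≤ (zm M A).index := by rw [← hmul]; exact Nat.mul_le_mul_left _ h4
    have h6 : 0 < Nat.card A := Nat.card_pos
    omega
  have hsup : Ma ⊔ zm M A = ⊤ := index_eq_one.1 hone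
  have hexA : (cmR R' A).index = Nat.card A := by
    rw [hone, mul_one] at hmul
    rw [hmul]; exact P.ex.card.symm
  -- the atom
  obtain ⟨B, hBA, hB1, hBex, hBat⟩ := Front.exists_atom P.ex.ne hexA hno
  refine ⟨Additive U, inferInstance, act1, R', θ, N, B, S, hBA.trans hAN, fun b hb => P.ex.sq b (hBA hb), ?_, ?_,
    hBex, hBat⟩
  · intro x hx z hz w
    rw [hcr, ιadd, ιsm, map_mul, D.equi]
    have h1 := P.ex.quad z (hBA hz) x (hBA hx) (π (ι w))
    have h2 : (π (ι w))⁻¹ = π (ι w) := by rw [← map_inv, hinv]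
    rwa [h2] at h1
  · -- `|B| = 2` is impossible
    by_contra h4
    have hB2 : IsPGroup 2 B := S.N2.to_le (hBA.trans hAN)
    have hcard : Nat.card B = 2 := by
      have : Fact (Nat.Prime 2) := ⟨Nat.prime_two⟩
      obtain ⟨n, hn⟩ := IsPGroup.iff_card.1 hB2
      match n, hn with
      | 0, hn =>
        exfalso
        apply hB1
        rw [pow_zero] at hn
        exact card_eq_one.1 hn
      | 1, hn => rw [hn, pow_one]
      | n + 2, hn =>
        exfalso
        apply h4
        rw [hn, pow_add]
        have := Nat.one_le_two_pow (n := n)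
        omega
    obtain ⟨g, hg, hg1⟩ : ∃ g ∈ B, g ≠ 1 := by
      by_contra hcon
      push Not at hcon
      exact hB1 ((eq_bot_iff_forall B).2 hcon)
    rw [hcard] at hBex
    -- on `Ma`
    have hgm : ∀ m ∈ Ma, ∀ n ∈ Ma, g • m = m ∨ g • n = n ∨ g • (m * n) = m * n := by
      intro m hm n hn
      obtain ⟨v, rfl⟩ := P.surj m
      obtain ⟨w, rfl⟩ := P.surj n
      have hv : v ∈ U := hm
      have hw : w ∈ U := hn
      have h1 := Front.tv_of_index_two hBex hg (mk v hv) (mk w hw)
      rw [hcr, hcr, hcr, ιadd, ιmk, ιmk, map_mul] at h1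
      exact h1
    have hgM : ∀ m n : M, g • m = m ∨ g • n = n ∨ g • (m * n) = m * n := by
      intro m n
      have h1 : ∀ m : M, ∃ m' ∈ Ma, ∃ c ∈ zm M A, m = m' * c := by
        intro m
        have : m ∈ Ma ⊔ zm M A := by rw [hsup]; exact mem_top m
        obtain ⟨x, hx, c, hc, e⟩ := mem_sup.1 this
        exact ⟨x, hx, c, hc, e.symm⟩
      obtain ⟨m', hm', c, hc, rfl⟩ := h1 m
      obtain ⟨n', hn', d, hd, rfl⟩ := h1 n
      have hc' : g • c = c := mem_cv.1 hc g (hBA hg)
      have hd' : g • d = d := mem_cv.1 hd g (hBA hg)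
      rcases hgm m' hm' n' hn' with h | h | h
      · left; rw [smul_mul', h, hc']
      · right; left; rw [smul_mul', h, hd']
      · right; right
        have e : m' * c * (n' * d) = m' * n' * (c * d) := mul_mul_mul_comm _ _ _ _
        rw [e, smul_mul' g (m' * n'), h, smul_mul', hc', hd']
    -- two independent elements of `lam`
    obtain ⟨b₁, hb₁, b₂, hb₂, n1, n2, n3⟩ : ∃ b₁ ∈ V, ∃ b₂ ∈ V, b₁ ∉ R ∧ b₂ ∉ R ∧ b₁ * b₂ ∉ R := by
      by_contra hcon
      push Not at hcon
      have h1 : (lam : Set M) ⊆ (({1, π a} : Finset M) : Set M) := by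
        rintro _ ⟨v, hv, rfl⟩
        simp only [Finset.coe_insert, Finset.coe_singleton, Set.mem_insert_iff, Set.mem_singleton_iff]
        by_cases hvR : v ∈ R
        · left; exact (D.ker v).2 hvR
        · right
          have h2 := hcon v hv a ha hvR haR
          have h3 := (D.ker _).2 h2
          rw [map_mul] at h3
          have h4 : π a * π a = 1 := F.sq _
          exact (mul_left_inj (π a)).1 (h3.trans h4.symm)
      have h2 := Set.ncard_le_ncard h1 (Finset.finite_toSet _)
      rw [Set.ncard_coe_finset] at h2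
      have h3 : (lam : Set M).ncard = Nat.card lam := rfl
      have h4 := Finset.card_le_two (a := (1 : M)) (b := π a)
      have h5 := F.four
      omega
    apply hg1
    refine htriv g fun h b hb => ?_
    rcases hgM (h • π b₁) (h • π b₂) with e | e | e
    · exact hlin' g h b₁ hb₁ n1 e b hb
    · exact hlin' g h b₂ hb₂ n2 e b hb
    · refine hlin' g h (b₁ * b₂) (V.mul_mem hb₁ hb₂) n3 ?_ b hb
      rw [map_mul, smul_mul']
      exact e

end main

end Cfsg.Agent.Omega.FOne.QR
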