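import Cfsg.Agent.Omega.FOne.QR.Base

/-!
# (F1), the K-route for `R` of any size: the minimal overgroup, second part (helper69)

* `SwR.no` : (NO) on `W / R`;
* `SwR.dich` : an atom is trivial on `M_X` or `B ∩ K_X = 1`, `W = W_X + C(B)`;
* `SwR.exists_min` : the minimal overgroup `X` on which some atom `B` is not trivial;
* `MinX` : its properties.
-/

set_option autoImplicit false
set_option linter.unusedSectionVars false

namespace Cfsg.Agent.Omega.FOne.QR

open Subgroup Cfsg Cfsg.Agent.ZN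

universe u v

variable {H : Type u} [Group H] {W : Type v} [AddCommGroup W] [DistribMulAction H W]
  {R : AddSubgroup W} {θ : W} {T N : Subgroup H}

theorem SwR.bs (S : SwR R θ T N) : Bs H R := ⟨S.two, S.fixR⟩

theorem SwR.sylX (S : SwR R θ T N) {X : Subgroup H} (hTX : T ≤ X) : ¬ 2 ∣ T.relIndex X := fun h =>
  S.syl (h.trans (relIndex_dvd_index_of_le hTX))

/-- `N ≤ T` -/
theorem SwR.NT (S : SwR R θ T N) : N ≤ T := by
  have := S.finX
  have : Fact (Nat.Prime 2) := ⟨Nat.prime_two⟩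
  have h1 : IsPGroup 2 (T ⊔ N : Subgroup H) := by
    refine IsPGroup.to_sup_of_normal_right' S.T2 S.N2 fun t ht => ?_
    rw [mem_normalizer_iff]
    intro n
    constructor
    · exact S.Nn t (S.Tθ t ht) n
    · intro hn
      have := S.Nn t⁻¹ (S.Tθ _ (T.inv_mem ht)) _ hn
      have e : t⁻¹ * (t * n * t⁻¹) * t⁻¹⁻¹ = n := by group
      rwa [e] at this
  have h2 : T ⊔ N = T := (S.T2.toSylow S.syl).is_maximal' h1 le_sup_left
  calc N ≤ T ⊔ N := le_sup_right
    _ = T := h2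

theorem SwR.sp_top (S : SwR R θ T N) : sp R (⊤ : Subgroup H) θ = ⊤ :=
  S.gen _ (le_sp R _ θ) fun x => smul_mem_sp' R θ (mem_top x)

theorem SwR.kk_top (S : SwR R θ T N) : kk S.bs (sp R (⊤ : Subgroup H) θ) = ⊥ := by
  rw [eq_bot_iff]
  intro x hx
  rw [S.sp_top] at hx
  exact mem_bot.2 (S.faith x fun w => hx w (AddSubgroup.mem_top w))

/-- (ML) for `T ≤ X` -/
theorem SwR.rel (S : SwR R θ T N) (hML : ML.Final.MLK.{u, v}) {X A : Subgroup H} (hTX : T ≤ X) (AN : A ≤ N)
    (sq : ∀ a ∈ A, a * a = 1) : (kk S.bs (sp R X θ)).relIndex A ≤ (cmR R A).relIndex (sp R X θ) := by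
  have := S.finX
  have := S.finW
  exact no_rel S.bs hML S.known hTX S.T2 (S.sylX hTX) S.Tθ (S.NT.trans hTX) S.N2 S.Nθ (fun x _ => S.Nn x) AN sq

/-- **(NO)** on `W / R` -/
theorem SwR.no (S : SwR R θ T N) (hML : ML.Final.MLK.{u, v}) {A : Subgroup H} (AN : A ≤ N)
    (sq : ∀ a ∈ A, a * a = 1) : Nat.card A ≤ (cmR R A).index := by
  have h := S.rel hML (X := ⊤) le_top AN sq
  rw [S.kk_top, S.sp_top, relIndex_bot_left, AddSubgroup.relIndex_top_right] at h
  exact h

/-- **(1)** : an atom is trivial on `M_X`, or faithful on it with `W = W_X + C(B)`. -/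
theorem SwR.dich (S : SwR R θ T N) (hML : ML.Final.MLK.{u, v}) {X B : Subgroup H} (hTX : T ≤ X) (hB : AtR R N B) :
    B ≤ kk S.bs (sp R X θ) ∨ (B ⊓ kk S.bs (sp R X θ) = ⊥ ∧ sp R X θ ⊔ cmR R B = ⊤) := by
  have := S.finX
  have := S.finW
  set K := kk S.bs (sp R X θ) with hK
  set D := B ⊓ K with hD
  have h1 : K.relIndex B ≤ (cmR R B).relIndex (sp R X θ) := S.rel hML hTX hB.BN hB.sq
  have h2 : K.relIndex B * Nat.card D = Nat.card B := by
    have h3 : (K.subgroupOf B).index * Nat.card (K.subgroupOf B) = Nat.card B := index_mul_card _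
    have h4 : Nat.card (K.subgroupOf B) = Nat.card D := by
      rw [hD, ← inf_subgroupOf_left K B]
      exact Nat.card_congr (subgroupOfEquivOfLe inf_le_left).toEquiv
    rw [h4] at h3
    exact h3
  have hUD : sp R X θ ≤ cmR R D := fun u hu d hd => hd.2 u hu
  have hBD : cmR R B ≤ cmR R D := cmR_anti inf_le_left
  have h3 : (cmR R B).relIndex (sp R X θ) ≤ (cmR R B).relIndex (cmR R D) :=
    AddSubgroup.relIndex_le_of_le_right hUD AddSubgroup.index_ne_zero_of_finite
  have h4 : (cmR R B).relIndex (cmR R D) * (cmR R D).index = Nat.card B := by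
    rw [AddSubgroup.relIndex_mul_index hBD, hB.exact]
  have hpos : 0 < K.relIndex B := Nat.pos_of_ne_zero index_ne_zero_of_finite
  by_cases hDB : D = B
  · left
    rw [← hDB]
    exact inf_le_right
  by_cases hD0 : D = ⊥
  · right
    refine ⟨hD0, ?_⟩
    rw [hD0, card_bot, mul_one] at h2
    have h5 : (cmR R B).relIndex (sp R X θ ⊔ cmR R B) * (sp R X θ ⊔ cmR R B).index = (cmR R B).index :=
      AddSubgroup.relIndex_mul_index le_sup_right
    rw [AddSubgroup.relIndex_sup_right, hB.exact] at h5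
    rw [← AddSubgroup.index_eq_one]
    have h6 : 0 < (sp R X θ ⊔ cmR R B).index := Nat.pos_of_ne_zero AddSubgroup.index_ne_zero_of_finite
    by_contra h7
    have h8 : 2 ≤ (sp R X θ ⊔ cmR R B).index := by omega
    have h9 : (cmR R B).relIndex (sp R X θ) * 2 ≤ Nat.card B := by
      rw [← h5]; exact Nat.mul_le_mul_left _ h8
    omega
  · exfalso
    have h5 := hB.atom D inf_le_left hD0 hDB
    have h6 : Nat.card B < (cmR R B).relIndex (cmR R D) * (cmR R D).index := by
      calc Nat.card B = K.relIndex B * Nat.card D := h2.symm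
        _ < K.relIndex B * (cmR R D).index := Nat.mul_lt_mul_of_pos_left h5 hpos
        _ ≤ (cmR R B).relIndex (cmR R D) * (cmR R D).index := Nat.mul_le_mul_right _ (h1.trans h3)
    omega

/-- an atom which is trivial on `M_Q` lies in `O₂(Q)` -/
theorem SwR.le_o2_of_le (S : SwR R θ T N) {Q B : Subgroup H} (hTQ : T ≤ Q) (hBN : B ≤ N)
    (hB : B ≤ kk S.bs (sp R Q θ)) : B ≤ o2 Q := by
  set K := kk S.bs (sp R Q θ) ⊓ Q with hK
  have hKθ : ∀ k ∈ K, k • θ + θ ∈ R := fun k hk => hk.1 θ (mem_sp R Q θ)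
  have h1 : N ⊓ K ≤ o2 K := by
    refine le_o2 inf_le_right (S.N2.to_le inf_le_left) fun k hk => ?_
    rw [mem_normalizer_iff]
    intro n
    constructor
    · intro hn
      exact ⟨S.Nn k (hKθ k hk) n hn.1, K.mul_mem (K.mul_mem hk hn.2) (K.inv_mem hk)⟩
    · intro hn
      have h2 := S.Nn k⁻¹ (hKθ _ (K.inv_mem hk)) _ hn.1
      have h3 := K.mul_mem (K.mul_mem (K.inv_mem hk) hn.2) (K.inv_mem (K.inv_mem hk))
      have e : k⁻¹ * (k * n * k⁻¹) * k⁻¹⁻¹ = n := by group
      rw [e] at h2 h3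
      exact ⟨h2, h3⟩
  have h2 : Q ≤ normalizer (K : Set H) := by
    intro q hq
    rw [mem_normalizer_iff]
    intro k
    constructor
    · intro hk
      exact ⟨kk_norm S.bs hq hk.1, Q.mul_mem (Q.mul_mem hq hk.2) (Q.inv_mem hq)⟩
    · intro hk
      have h2 := kk_norm S.bs (Q.inv_mem hq) hk.1
      have h3 := Q.mul_mem (Q.mul_mem (Q.inv_mem hq) hk.2) (Q.inv_mem (Q.inv_mem hq))
      have e : q⁻¹ * (q * k * q⁻¹) * q⁻¹⁻¹ = k := by group
      rw [e] at h2 h3
      exact ⟨h2, h3⟩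
  have h3 : o2 K ≤ o2 Q := le_o2 ((o2_le K).trans inf_le_right) (isPGroup_o2 K)
    (h2.trans (normalizer_le_normalizer_o2 K))
  exact (le_inf hBN (le_inf hB ((hBN.trans S.NT).trans hTQ))).trans (h1.trans h3)

/-- **The minimal overgroup.** -/
structure MinX (R : AddSubgroup W) (θ : W) (T N : Subgroup H) (b : Bs H R) (X B : Subgroup H) : Prop where
  TX : T ≤ X
  at_ : AtR R N B
  nt : ¬ B ≤ kk b (sp R X θ)
  min : ∀ Q : Subgroup H, T ≤ Q → Q ≤ X → Q ≠ X → ∀ C, AtR R N C → C ≤ kk b (sp R Q θ)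

theorem SwR.exists_min (S : SwR R θ T N) {B : Subgroup H} (hB : AtR R N B) :
    ∃ X B' : Subgroup H, MinX R θ T N S.bs X B' := by
  have := S.finX
  have hfin : Finite (Subgroup H) := inferInstance
  obtain ⟨X, hX⟩ := (Set.toFinite {X : Subgroup H | T ≤ X ∧ ∃ C, AtR R N C ∧ ¬ C ≤ kk S.bs (sp R X θ)}).exists_minimal
    ⟨⊤, le_top, B, hB, fun h => by
      rw [S.kk_top, le_bot_iff] at h
      have h4 := hB.four
      rw [h, card_bot] at h4
      omega⟩
  obtain ⟨hTX, C, hC, hCX⟩ := hX.prop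
  refine ⟨X, C, hTX, hC, hCX, fun Q hTQ hQX hne C' hC' => ?_⟩
  by_contra hcon
  exact hne (le_antisymm hQX (hX.le_of_le (y := Q) ⟨hTQ, C', hC', hcon⟩ hQX))

end Cfsg.Agent.Omega.FOne.QR
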