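import Cfsg.Agent.Omega.FOne.QR.Min
import Cfsg.Agent.Omega.FOne.ThmR.Main

/-!
# (F1), the K-route for `R` of any size: the vector `θ_n` (helper69)

* `exists_norm` : the product of an odd orbit;
* `min_sup_eq` : `X = ⟨B^X⟩ T`;
* `min_exists_vec` : `θ_s`, fixed by `X` modulo `R`, with `θ + θ_s ∈ [W_X, ⟨B^X⟩] R`;
* `min_thmA` : `K_X` centralises `[W_X, ⟨B^X⟩]`.
-/

set_option autoImplicit false
set_option linter.unusedSectionVars false
set_option linter.style.haveILetI false

namespace Cfsg.Agent.Omega.FOne.QR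

open Subgroup Cfsg Cfsg.Agent.ZN

universe u v

section norm

variable {G : Type*} [Group G] {M : Type*} [CommGroup M] [MulDistribMulAction G M]

/-- the product of an orbit of odd length -/
theorem exists_norm [Finite M] (sq : ∀ m : M, m * m = 1) {T L : Subgroup G}
    (hn : ∀ t ∈ T, ∀ k ∈ L, t * k * t⁻¹ ∈ L) (hodd : ¬ 2 ∣ T.relIndex L) {m : M} (hm : ∀ t ∈ T, t • m = m) :
    ∃ s : M, (∀ k ∈ L, k • s = s) ∧ (∀ t ∈ T, t • s = s) ∧
      m * s ∈ Subgroup.closure {x | ∃ k ∈ L, x = (k • m) * m} := by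
  classical
  haveI : Fintype (MulAction.orbit L m) := Fintype.ofFinite _
  have hcard : ¬ 2 ∣ Fintype.card (MulAction.orbit L m) := by
    intro h
    apply hodd
    have e : Fintype.card (MulAction.orbit L m) = (MulAction.stabilizer L m).index := by
      rw [← Nat.card_eq_fintype_card]
      exact Nat.card_congr (MulAction.orbitEquivQuotientStabilizer L m)
    have hle : T.subgroupOf L ≤ MulAction.stabilizer L m := by
      intro x hx
      rw [MulAction.mem_stabilizer_iff]
      exact hm _ (mem_subgroupOf.mp hx)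
    rw [e] at h
    exact h.trans (index_dvd_of_le hle)
  refine ⟨∏ x : MulAction.orbit L m, (x : M), ?_, ?_, ?_⟩
  · intro k hk
    rw [Finset.smul_prod']
    exact Fintype.prod_equiv (MulAction.toPerm (⟨k, hk⟩ : L)) _ _ (fun x => rfl)
  · intro t ht
    rw [Finset.smul_prod']
    have hmem : ∀ x ∈ MulAction.orbit L m, t • x ∈ MulAction.orbit L m := by
      rintro _ ⟨k, rfl⟩
      refine ⟨⟨t * k * t⁻¹, hn t ht k k.2⟩, ?_⟩
      change (t * k * t⁻¹) • m = t • ((k : G) • m)
      rw [mul_smul, mul_smul, hm t⁻¹ (T.inv_mem ht)]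
    have hinj : Function.Injective (fun x : MulAction.orbit L m =>
        (⟨t • (x : M), hmem x x.2⟩ : MulAction.orbit L m)) := by
      intro x x' h
      exact Subtype.ext (MulAction.injective t (congrArg Subtype.val h))
    exact Fintype.prod_bijective _ (Finite.injective_iff_bijective.mp hinj) _ _ (fun x => rfl)
  · have hpow : m ^ Fintype.card (MulAction.orbit L m) = m := by
      obtain ⟨j, hj⟩ := Nat.not_even_iff_odd.mp (fun h => hcard (even_iff_two_dvd.mp h))
      rw [hj, pow_succ, pow_mul, sq_mul_self sq, one_pow, one_mul]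
    have e : m * ∏ x : MulAction.orbit L m, (x : M) = ∏ x : MulAction.orbit L m, (x : M) * m := by
      rw [Finset.prod_mul_distrib, Finset.prod_const, Finset.card_univ, hpow, mul_comm]
    rw [e]
    refine Subgroup.prod_mem _ fun x _ => ?_
    obtain ⟨k, hk⟩ := x.2
    exact Subgroup.subset_closure ⟨k, k.2, by rw [← hk]; rfl⟩
where
  sq_mul_self {m : M} (sq : ∀ m : M, m * m = 1) : m ^ 2 = 1 := by rw [pow_two, sq]

end norm

variable {H : Type u} [Group H] {W : Type v} [AddCommGroup W] [DistribMulAction H W]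
  {R : AddSubgroup W} {θ : W} {T N X B : Subgroup H}

/-- `⟨B^X⟩` -/
def LX (X B : Subgroup H) : Subgroup H := Subgroup.closure {y | ∃ x ∈ X, ∃ c ∈ B, y = x * c * x⁻¹}

theorem LX_le (hBX : B ≤ X) : LX X B ≤ X := by
  rw [LX, closure_le]
  rintro _ ⟨x, hx, c, hc, rfl⟩
  exact X.mul_mem (X.mul_mem hx (hBX hc)) (X.inv_mem hx)

theorem le_LX : B ≤ LX X B := fun c hc => subset_closure ⟨1, X.one_mem, c, hc, by group⟩

theorem LX_conj {x g : H} (hx : x ∈ X) (hg : g ∈ LX X B) : x * g * x⁻¹ ∈ LX X B := by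
  have h1 : LX X B ≤ (LX X B).comap (MulAut.conj x).toMonoidHom := by
    conv_lhs => rw [LX]
    rw [closure_le]
    rintro _ ⟨y, hy, c, hc, rfl⟩
    refine subset_closure ⟨x * y, X.mul_mem hx hy, c, hc, ?_⟩
    change x * (y * c * y⁻¹) * x⁻¹ = x * y * c * (x * y)⁻¹
    group
  exact h1 hg

theorem le_normalizer_LX : X ≤ normalizer (LX X B : Set H) := by
  intro x hx
  rw [mem_normalizer_iff]
  intro g
  constructor
  · exact LX_conj hx
  · intro hg
    have := LX_conj (X.inv_mem hx) hg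
    have e : x⁻¹ * (x * g * x⁻¹) * x⁻¹⁻¹ = g := by group
    rwa [e] at this

section min

variable (S : SwR R θ T N) (M : MinX R θ T N S.bs X B)

include M

theorem min_BX : B ≤ X := (M.at_.BN.trans S.NT).trans M.TX

/-- (a) `X = ⟨B^X⟩ T` -/
theorem min_sup_eq : LX X B ⊔ T = X := by
  have := S.finX
  have hle : LX X B ⊔ T ≤ X := sup_le (LX_le (min_BX S M)) M.TX
  by_contra hne
  set Y := LX X B ⊔ T with hY
  have h1 : B ≤ kk S.bs (sp R Y θ) := M.min Y le_sup_right hle hne B M.at_
  have h2 : B ≤ o2 Y := S.le_o2_of_le le_sup_right M.at_.BN h1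
  have h3 : o2 Y ⊓ LX X B ≤ o2 (LX X B) := by
    refine le_o2 inf_le_right ((isPGroup_o2 Y).to_le inf_le_left) ?_
    intro l hl
    have h4 := le_normalizer_o2 Y ((le_sup_left : LX X B ≤ Y) hl)
    rw [mem_normalizer_iff] at h4 ⊢
    intro g
    constructor
    · intro hg
      exact ⟨(h4 g).1 hg.1, (LX X B).mul_mem ((LX X B).mul_mem hl hg.2) ((LX X B).inv_mem hl)⟩
    · intro hg
      have h5 := (LX X B).mul_mem ((LX X B).mul_mem ((LX X B).inv_mem hl) hg.2) hl
      have e : l⁻¹ * (l * g * l⁻¹) * l = g := by group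
      rw [e] at h5
      exact ⟨(h4 g).2 hg.1, h5⟩
  have h4 : o2 (LX X B) ≤ o2 X := le_o2 ((o2_le _).trans (LX_le (min_BX S M))) (isPGroup_o2 _)
    (le_normalizer_LX.trans (normalizer_le_normalizer_o2 _))
  have h5 : B ≤ o2 X := (le_inf h2 le_LX).trans (h3.trans h4)
  have h6 : o2 X ≤ T := o2_le_of_sylow M.TX S.T2 (S.sylX M.TX)
  apply M.nt
  intro c hc
  rw [mem_kk_sp]
  intro x hx
  have h7 : x⁻¹ * c * x ∈ o2 X := by
    have h8 := (mem_normalizer_iff.1 (le_normalizer_o2 X (X.inv_mem hx)) c).1 (h5 hc)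
    rwa [inv_inv] at h8
  have h8 := S.Tθ _ (h6 h7)
  have e : c • x • θ + x • θ = x • ((x⁻¹ * c * x) • θ + θ) := by
    rw [smul_add, mul_smul, mul_smul, smul_inv_smul]
  rw [e, S.fixR x _ h8]
  exact h8

/-- the frame of THEOREM A -/
theorem min_dat (hML : ML.Final.MLK.{u, v}) : ThmR.Dat X T N B R (sp R X θ) θ := by
  have hd := (S.dich hML M.TX M.at_).resolve_left M.nt
  refine
    { two := S.two
      fixR := S.fixR
      faith := S.faith
      TX := M.TX
      T2 := S.T2
      syl := S.sylX M.TX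
      BO := M.at_.BN
      BX := (min_BX S M)
      sqB := M.at_.sq
      quad := fun b hb c hc w => M.at_.quad c hc b hb w
      no := fun E hE hsq => S.no hML hE hsq
      ex := M.at_.exact.symm
      min := fun E hE hne hex => ?_
      RV := le_sp R X θ
      XV := fun x hx v hv => smul_mem_sp S.bs hx hv
      gen := fun U hR hU => sp_le hR hU
      lamV := mem_sp R X θ
      Tlam := S.Tθ
      nO := fun h hh o ho => S.Nn h hh o ho
      cover := fun w => ?_ }
  · by_contra hcon
    have := M.at_.atom E hE hne hcon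
    exact absurd hex (Nat.ne_of_lt this)
  · have h1 : w ∈ sp R X θ ⊔ cmR R B := by rw [hd.2]; exact AddSubgroup.mem_top w
    obtain ⟨v, hv, c, hc, e⟩ := AddSubgroup.mem_sup.1 h1
    refine ⟨v, hv, ?_⟩
    have e2 : w + v = c := by
      rw [← e]
      calc v + c + v = (v + v) + c := by abel
        _ = c := by rw [S.two, zero_add]
    rw [e2]
    exact hc

/-- **THEOREM A** for the minimal overgroup -/
theorem min_thmA (hML : ML.Final.MLK.{u, v}) {k l : H} {w : W} (hk : k ∈ X) (hkK : k ∈ kk S.bs (sp R X θ))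
    (hl : l ∈ LX X B) (hw : w ∈ sp R X θ) : k • (l • w + w) = l • w + w := by
  have := S.finX
  have := S.finW
  have h1 := (min_dat S M hML).main M.at_.four l hl k hk (fun v hv => hkK v hv) w hw
  have h2 : k • (l • w + w) + (l • w + w) = 0 := h1
  have h3 := eq_neg_of_add_eq_zero_left h2
  rw [h3]
  exact neg_eq_of_add_eq_zero_left (S.two _)

/-- (b) : the vector `θ_s` -/
theorem min_exists_vec : ∃ s : W, s ∈ sp R X θ ∧ (∀ x ∈ X, x • s + s ∈ R) ∧
    θ + s ∈ AddSubgroup.closure ((R : Set W) ∪ {w | ∃ k ∈ LX X B, w = k • θ + θ}) := by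
  classical
  have := S.finX
  have := S.finW
  letI := act (X := H) (R := R) S.fixR
  have hfin : Finite (MR R) := Finite.of_surjective (mkH R) (mkH_surj R)
  have hsm : ∀ (x : H) (w : W), x • mk R w = mk R (x • w) := fun _ _ => rfl
  have hT : T ≤ normalizer (LX X B : Set H) := M.TX.trans le_normalizer_LX
  have hodd : ¬ 2 ∣ T.relIndex (LX X B) := by
    rw [← ML.MinFrame.relIndex_sup_comm hT, min_sup_eq S M]
    exact S.sylX M.TX
  obtain ⟨s, hsL, hsT, hs⟩ := exists_norm (G := H) (M := MR R) (fun m => by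
    obtain ⟨w, rfl⟩ := mk_surj m
    rw [← mk_add, S.two, mk_zero]) (T := T) (L := LX X B) (fun t ht k hk => LX_conj (M.TX ht) hk) hodd
    (m := mk R θ) (fun t ht => by
      rw [hsm, mk_eq' S.two]
      exact S.Tθ t ht)
  obtain ⟨w, rfl⟩ := mk_surj s
  have hcl : θ + w ∈ AddSubgroup.closure ((R : Set W) ∪ {w | ∃ k ∈ LX X B, w = k • θ + θ}) := by
    set C := AddSubgroup.closure ((R : Set W) ∪ {w | ∃ k ∈ LX X B, w = k • θ + θ}) with hC
    have hRC : R ≤ C := fun r hr => AddSubgroup.subset_closure (Or.inl hr)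
    have h1 : Subgroup.closure {x : MR R | ∃ k ∈ LX X B, x = (k • mk R θ) * mk R θ} ≤
        (AddSubgroup.toSubgroup C).map (mkH R) := by
      rw [closure_le]
      rintro _ ⟨k, hk, rfl⟩
      have h2 : k • θ + θ ∈ C := AddSubgroup.subset_closure (Or.inr ⟨k, hk, rfl⟩)
      exact ⟨Multiplicative.ofAdd (k • θ + θ), h2, rfl⟩
    obtain ⟨c, hc, e⟩ := h1 hs
    have e' : mk R (Multiplicative.toAdd c) = mk R (θ + w) := e
    rw [mk_eq' S.two] at e'
    have h2 := C.add_mem (hRC e') (show Multiplicative.toAdd c ∈ C from hc)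
    have e2 : Multiplicative.toAdd c + (θ + w) + Multiplicative.toAdd c = θ + w := by
      have := S.two (Multiplicative.toAdd c)
      calc Multiplicative.toAdd c + (θ + w) + Multiplicative.toAdd c =
          (Multiplicative.toAdd c + Multiplicative.toAdd c) + (θ + w) := by abel
        _ = _ := by rw [this, zero_add]
    rwa [e2] at h2
  refine ⟨w, ?_, ?_, hcl⟩
  · have h1 : AddSubgroup.closure ((R : Set W) ∪ {w | ∃ k ∈ LX X B, w = k • θ + θ}) ≤ sp R X θ := by
      rw [AddSubgroup.closure_le]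
      rintro v (hv | ⟨k, hk, rfl⟩)
      · exact le_sp R X θ hv
      · exact (sp R X θ).add_mem (smul_mem_sp' R θ (LX_le (min_BX S M) hk)) (mem_sp R X θ)
    have h2 := (sp R X θ).add_mem (mem_sp R X θ) (h1 hcl)
    rwa [← add_assoc, S.two, zero_add] at h2
  · have hfix : ∀ x ∈ LX X B ⊔ T, x • mk R w = mk R w := by
      have h1 : LX X B ⊔ T ≤ MulAction.stabilizer H (mk R w) := sup_le (fun k hk => hsL k hk) (fun t ht => hsT t ht)
      exact fun x hx => h1 hx
    intro x hx
    rw [← min_sup_eq S M] at hx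
    have h1 := hfix x hx
    rwa [hsm, mk_eq' S.two] at h1

end min

end Cfsg.Agent.Omega.FOne.QR
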