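import Cfsg.Agent.Omega.FOne.QR.Red
import Cfsg.Agent.Omega.FOne.QR.Atom
import Cfsg.Agent.Involutions.BaerSuzuki

/-!
# From an exact group on `W` to an atom of `W / R` (helper763 #23689 (2)-(4), typed by helper851)

`SwR R θ T N`; `E ≤ N` is elementary abelian, quadratic and exact on `W` (`|W : C_W(E)| ≤ |E|`, `|C| < |W : C_W(C)|` for
`1 < C < E`), `|E| ≥ 4`, and an element of `E` which normalises a line `R + ⟨x • θ⟩` centralises it (`m1`).

* `SwR.o2_bot` : no nontrivial normal 2-subgroup;
* `SwR.tw` : an involution `b` with `(cmR R ⟨b⟩).index = 2` and `m1` is a transvection of `W`;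
* **`SwR.exists_atR`** : `E` contains an atom `B` of `W / R` with `|B| ≥ 4`, i.e. `AtR R N B`.
-/

set_option autoImplicit false
set_option linter.unusedSectionVars false

namespace Cfsg.Agent.Omega.FOne.QR

open Subgroup Cfsg Cfsg.Agent.ZN

universe u v

variable {X : Type u} [Group X] {W : Type v} [AddCommGroup W] [DistribMulAction X W]

/-- `C_W(B)` -/
def fxW (B : Subgroup X) : AddSubgroup W where
  carrier := {w | ∀ b ∈ B, b • w = w}
  zero_mem' := fun b _ => smul_zero b
  add_mem' := by
    intro v w hv hw b hb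
    rw [smul_add, hv b hb, hw b hb]
  neg_mem' := by
    intro w hw b hb
    rw [smul_neg, hw b hb]

theorem mem_fxW {B : Subgroup X} {w : W} : w ∈ (fxW B : AddSubgroup W) ↔ ∀ b ∈ B, b • w = w := Iff.rfl

theorem fxW_le {R : AddSubgroup W} (two : ∀ w : W, w + w = 0) (B : Subgroup X) : fxW B ≤ cmR R B := by
  intro w hw b hb
  rw [hw b hb, two]
  exact R.zero_mem

variable {R : AddSubgroup W} {θ : W} {T N : Subgroup X}

theorem mem_cmR_zpowers {b : X} (hb : b * b = 1) (two : ∀ w : W, w + w = 0) {w : W} :
    w ∈ cmR R (zpowers b) ↔ b • w + w ∈ R := by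
  constructor
  · intro h
    exact h b (mem_zpowers b)
  · intro h x hx
    obtain ⟨n, rfl⟩ := mem_zpowers_iff.1 hx
    rcases Int.even_or_odd n with hn | hn
    · obtain ⟨k, rfl⟩ := hn
      have e : b ^ (k + k) = 1 := by
        rw [← two_mul, zpow_mul, zpow_two, hb, one_zpow]
      rw [e, one_smul, two]
      exact R.zero_mem
    · obtain ⟨k, rfl⟩ := hn
      have e : b ^ (2 * k + 1) = b := by
        rw [zpow_add_one, zpow_mul, zpow_two, hb, one_zpow, one_mul]
      rw [e]
      exact h

/-- `O_2(X) = 1` -/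
theorem SwR.o2_bot (S : SwR R θ T N) {P : Subgroup X} (hP : IsPGroup 2 P) (hn : P.Normal) : P = ⊥ := by
  have := S.finX
  have : Fact (Nat.Prime 2) := ⟨Nat.prime_two⟩
  have hPT : P ≤ T := by
    have h1 : IsPGroup 2 (T ⊔ P : Subgroup X) := S.T2.to_sup_of_normal_right hP
    have h2 : T ⊔ P = T := (S.T2.toSylow S.syl).is_maximal' h1 le_sup_left
    exact le_sup_right.trans h2.le
  rw [eq_bot_iff]
  intro p hp
  rw [mem_bot]
  refine S.faith p ?_
  have key : cmR R P = ⊤ := by
    refine S.gen _ ?_ ?_
    · intro r hr b _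
      rw [S.fixR b r hr, S.two]
      exact R.zero_mem
    · intro x b hb
      have h1 : x⁻¹ * b * x ∈ P := by
        have := hn.conj_mem b hb x⁻¹
        rwa [inv_inv] at this
      have h2 := S.Tθ _ (hPT h1)
      have e : b • x • θ + x • θ = x • ((x⁻¹ * b * x) • θ + θ) := by
        rw [smul_add, mul_smul, mul_smul, smul_inv_smul]
      rw [e, S.fixR x _ h2]
      exact h2
  intro w
  have : w ∈ cmR R P := by rw [key]; exact AddSubgroup.mem_top w
  exact this p hp

/-- two involutions which act on `W > U > R` in a small way: `(b b')^4 = 1` -/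
theorem SwR.pow_four (S : SwR R θ T N) {b b' : X} (hb : b * b = 1) {U : AddSubgroup W} (hRU : R ≤ U)
    (h1 : ∀ w, b' • w + w ∈ U) (h2 : ∀ u ∈ U, b • u + u ∈ R) (h3 : ∀ u ∈ U, b' • u + u ∈ R) :
    (b * b') ^ 4 = 1 := by
  have sub : ∀ (x : X) (u : W), x • u + u ∈ R → u ∈ U → x • u ∈ U := by
    intro x u h hu
    have e : x • u = (x • u + u) + u := by rw [add_assoc, S.two, add_zero]
    rw [e]
    exact U.add_mem (hRU h) hu
  -- `b b'` on `U`
  have h4 : ∀ u ∈ U, (b * b') • u + u ∈ R := by
    intro u hu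
    have e : (b * b') • u + u = (b • (b' • u + u)) + (b • u + u) := by
      rw [mul_smul, smul_add]
      calc b • b' • u + u = b • b' • u + (b • u + b • u) + u := by rw [S.two, add_zero]
        _ = _ := by abel
    rw [e, S.fixR b _ (h3 u hu)]
    exact R.add_mem (h3 u hu) (h2 u hu)
  have h4U : ∀ u ∈ U, (b * b') • u ∈ U := fun u hu => sub _ _ (h4 u hu) hu
  have hbU : ∀ u ∈ U, b • u ∈ U := fun u hu => sub _ _ (h2 u hu) hu
  -- `b b' w = b w` modulo `U`
  have h5 : ∀ w : W, (b * b') • w + b • w ∈ U := by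
    intro w
    rw [mul_smul, ← smul_add]
    exact hbU _ (h1 w)
  -- `(b b')² w = w` modulo `U`
  have h6 : ∀ w : W, (b * b') • (b * b') • w + w ∈ U := by
    intro w
    have e : (b * b') • (b * b') • w + w
        = (b * b') • ((b * b') • w + b • w) + ((b * b') • b • w + b • b • w) := by
      have e1 : b • b • w = w := by rw [← mul_smul, hb, one_smul]
      rw [e1, smul_add]
      calc (b * b') • (b * b') • w + w
          = (b * b') • (b * b') • w + ((b * b') • b • w + (b * b') • b • w) + w := by rw [S.two, add_zero]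
        _ = _ := by abel
    rw [e]
    exact U.add_mem (h4U _ (h5 w)) (h5 (b • w))
  refine S.faith _ fun w => ?_
  set ρ := b * b' with hρ
  have h7 : ∀ u ∈ U, ρ • ρ • u + u ∈ R := by
    intro u hu
    have e : ρ • ρ • u + u = (ρ • (ρ • u) + ρ • u) + (ρ • u + u) := by
      calc ρ • ρ • u + u = ρ • ρ • u + (ρ • u + ρ • u) + u := by rw [S.two, add_zero]
        _ = _ := by abel
    rw [e]
    exact R.add_mem (h4 _ (h4U u hu)) (h4 u hu)
  have e : ρ ^ 4 • w + w = ρ • ρ • (ρ • ρ • w + w) + (ρ • ρ • w + w) := by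
    have e1 : ρ ^ 4 • w = ρ • ρ • ρ • ρ • w := by
      rw [show ρ ^ 4 = ρ * ρ * ρ * ρ by simp only [pow_succ, pow_zero, one_mul], mul_smul, mul_smul, mul_smul]
    rw [e1, smul_add, smul_add]
    calc ρ • ρ • ρ • ρ • w + w = ρ • ρ • ρ • ρ • w + (ρ • ρ • w + ρ • ρ • w) + w := by rw [S.two, add_zero]
      _ = _ := by abel
  rw [e]
  exact h7 _ (h6 w)

/-- **LEMMA TW** : an involution which is a transvection of `W / R` and centralises the lines `R + ⟨x • θ⟩` which it
normalises is a transvection of `W`. -/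
theorem SwR.tw (S : SwR R θ T N) {b : X} (hb : b * b = 1) (hix : (cmR R (zpowers b)).index = 2)
    (m1 : ∀ x : X, b • x • θ + x • θ ∈ R → b • x • θ = x • θ) :
    ∃ c' : W, ∀ w : W, b • w = w ∨ b • (w + c') = w + c' := by
  have := S.finX
  have : Fact (Nat.Prime 2) := ⟨Nat.prime_two⟩
  have hmem : ∀ {w : W}, w ∈ cmR R (zpowers b) ↔ b • w + w ∈ R := mem_cmR_zpowers hb S.two
  -- a vector outside
  obtain ⟨w₀, hw₀⟩ : ∃ w₀ : W, w₀ ∉ cmR R (zpowers b) := by
    by_contra hcon
    push Not at hcon
    have : cmR R (zpowers b) = ⊤ := by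
      rw [eq_top_iff]
      intro w _
      exact hcon w
    rw [this, AddSubgroup.index_top] at hix
    omega
  have hb1 : b ≠ 1 := by
    rintro rfl
    exact hw₀ (hmem.2 (by rw [one_smul, S.two]; exact R.zero_mem))
  have bb : ∀ w : W, b • b • w = w := fun w => by rw [← mul_smul, hb, one_smul]
  set c : W := b • w₀ + w₀ with hc
  have hcf : b • c = c := by rw [hc, smul_add, bb, add_comm]
  have hcK : c ∈ cmR R (zpowers b) := hmem.2 (by rw [hcf, S.two]; exact R.zero_mem)
  have hcR : c ∉ R := fun h => hw₀ (hmem.2 h)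
  have hadd : ∀ {v w : W}, v ∉ cmR R (zpowers b) → w ∉ cmR R (zpowers b) → v + w ∈ cmR R (zpowers b) :=
    fun hv hw => add_mem_of_two hix hv hw
  -- (A), (B)
  have hA : ∀ {w : W}, w ∈ cmR R (zpowers b) → b • w + w ∈ R := fun h => hmem.1 h
  have hB : ∀ {w : W}, w ∉ cmR R (zpowers b) → b • w + w + c ∈ R := by
    intro w hw
    have h := hA (hadd hw hw₀)
    have e : b • (w + w₀) + (w + w₀) = b • w + w + c := by
      rw [hc, smul_add]; abel
    rwa [e] at h
  -- an element of odd order inverted by `b`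
  have hO : ¬ IsPGroup 2 (Subgroup.normalClosure {b} : Subgroup X) := by
    intro h
    have h1 := S.o2_bot h Subgroup.normalClosure_normal
    have h2 : b ∈ (Subgroup.normalClosure {b} : Subgroup X) := subset_normalClosure (by simp)
    rw [h1, mem_bot] at h2
    exact hb1 h2
  obtain ⟨h, hh1, hodd, hinv⟩ := Cfsg.Agent.Involutions.BaerSuzuki.exists_odd_inverted b hb hO
  have hbinv : b⁻¹ = b := inv_eq_of_mul_eq_one_left hb
  set b' : X := h * b * h⁻¹ with hb'
  set c' : W := h • c with hc'
  have hb'2 : b' * b' = 1 := by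
    rw [hb']
    calc h * b * h⁻¹ * (h * b * h⁻¹) = h * (b * b) * h⁻¹ := by group
      _ = 1 := by rw [hb]; group
  have hsm : ∀ w : W, b' • w = h • b • h⁻¹ • w := by
    intro w
    rw [hb', mul_smul, mul_smul]
  have hA' : ∀ {w : W}, h⁻¹ • w ∈ cmR R (zpowers b) → b' • w + w ∈ R := by
    intro w hw
    have h1 := hA hw
    have e : b' • w + w = h • (b • h⁻¹ • w + h⁻¹ • w) := by
      rw [hsm, smul_add, smul_inv_smul]
    rw [e, S.fixR h _ h1]
    exact h1
  have hB' : ∀ {w : W}, h⁻¹ • w ∉ cmR R (zpowers b) → b' • w + w + c' ∈ R := by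
    intro w hw
    have h1 := hB hw
    have e : b' • w + w + c' = h • (b • h⁻¹ • w + h⁻¹ • w + c) := by
      rw [hsm, smul_add, smul_add, smul_inv_smul]
    rw [e, S.fixR h _ h1]
    exact h1
  -- `b b' = h^{-2}` has odd order
  have hne : (b * b') ^ 4 ≠ 1 := by
    intro h4
    have e : b * b' = h⁻¹ * h⁻¹ := by
      have e1 : b * h * b⁻¹ = h⁻¹ := hinv
      rw [hbinv] at e1
      calc b * b' = (b * h * b) * h⁻¹ := by rw [hb']; group
        _ = h⁻¹ * h⁻¹ := by rw [e1]
    rw [e] at h4
    have e2 : h ^ 8 = 1 := by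
      have e3 : (h⁻¹ * h⁻¹) ^ 4 = (h ^ 8)⁻¹ := by group
      rw [e3, inv_eq_one] at h4
      exact h4
    have h5 : orderOf h ∣ 8 := orderOf_dvd_of_pow_eq_one e2
    have h6 : orderOf h ∣ 2 ^ 3 := by simpa using h5
    have h7 : Nat.Coprime (orderOf h) (2 ^ 3) :=
      (Nat.Coprime.pow_right 3 (Nat.coprime_two_right.2 hodd))
    have h8 : orderOf h = 1 := Nat.Coprime.eq_one_of_dvd h7 h6
    exact hh1 (orderOf_eq_one_iff.1 h8)
  -- `c' ∉ K`
  have hc'K : c' ∉ cmR R (zpowers b) := by
    intro hcon
    apply hne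
    refine S.pow_four hb (U := R ⊔ AddSubgroup.zmultiples c') le_sup_left ?_ ?_ ?_
    · intro w
      by_cases hw : h⁻¹ • w ∈ cmR R (zpowers b)
      · exact (le_sup_left : R ≤ _) (hA' hw)
      · have h1 := hB' hw
        have e : b' • w + w = (b' • w + w + c') + c' := by rw [add_assoc _ c' c', S.two, add_zero]
        rw [e]
        exact AddSubgroup.add_mem _ ((le_sup_left : R ≤ _) h1)
          ((le_sup_right : AddSubgroup.zmultiples c' ≤ _) (AddSubgroup.mem_zmultiples c'))
    · intro u hu
      have hle : R ⊔ AddSubgroup.zmultiples c' ≤ cmR R (zpowers b) := by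
        refine sup_le ?_ ?_
        · intro r hr
          exact hmem.2 (by rw [S.fixR b r hr, S.two]; exact R.zero_mem)
        · rw [AddSubgroup.zmultiples_le]
          exact hcon
      exact hA (hle hu)
    · intro u hu
      have hle : R ⊔ AddSubgroup.zmultiples c' ≤ cmR R (zpowers b') := by
        refine sup_le ?_ ?_
        · intro r hr
          exact (mem_cmR_zpowers hb'2 S.two).2 (by rw [S.fixR b' r hr, S.two]; exact R.zero_mem)
        · rw [AddSubgroup.zmultiples_le, mem_cmR_zpowers hb'2 S.two]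
          have e : b' • c' = c' := by rw [hsm, hc', inv_smul_smul, hcf]
          rw [e, S.two]
          exact R.zero_mem
      exact (mem_cmR_zpowers hb'2 S.two).1 (hle hu)
  -- `h⁻¹ c ∉ K`
  have hcK' : h⁻¹ • c ∉ cmR R (zpowers b) := by
    intro hcon
    have h4 : (b' * b) ^ 4 = 1 := by
      refine S.pow_four hb'2 (U := R ⊔ AddSubgroup.zmultiples c) le_sup_left ?_ ?_ ?_
      · intro w
        by_cases hw : w ∈ cmR R (zpowers b)
        · exact (le_sup_left : R ≤ _) (hA hw)
        · have h1 := hB hw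
          have e : b • w + w = (b • w + w + c) + c := by rw [add_assoc _ c c, S.two, add_zero]
          rw [e]
          exact AddSubgroup.add_mem _ ((le_sup_left : R ≤ _) h1)
            ((le_sup_right : AddSubgroup.zmultiples c ≤ _) (AddSubgroup.mem_zmultiples c))
      · intro u hu
        have hle : R ⊔ AddSubgroup.zmultiples c ≤ cmR R (zpowers b') := by
          refine sup_le ?_ ?_
          · intro r hr
            exact (mem_cmR_zpowers hb'2 S.two).2 (by rw [S.fixR b' r hr, S.two]; exact R.zero_mem)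
          · rw [AddSubgroup.zmultiples_le, mem_cmR_zpowers hb'2 S.two]
            exact hA' hcon
        exact (mem_cmR_zpowers hb'2 S.two).1 (hle hu)
      · intro u hu
        have hle : R ⊔ AddSubgroup.zmultiples c ≤ cmR R (zpowers b) := by
          refine sup_le ?_ ?_
          · intro r hr
            exact hmem.2 (by rw [S.fixR b r hr, S.two]; exact R.zero_mem)
          · rw [AddSubgroup.zmultiples_le]
            exact hcK
        exact hA (hle hu)
    apply hne
    have e : b * b' = (b' * b)⁻¹ := by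
      rw [mul_inv_rev, hbinv, inv_eq_of_mul_eq_one_left hb'2]
    rw [e, inv_pow, h4, inv_one]
  -- the points of the orbit
  have hpt : ∀ x : X, x • θ ∈ cmR R (zpowers b) → b • x • θ = x • θ := fun x hx => m1 x (hA hx)
  have hfix_add : ∀ {v w : W}, b • v = v → b • w = w → b • (v + w) = v + w := by
    intro v w hv hw
    rw [smul_add, hv, hw]
  have hfixR : ∀ r ∈ R, b • r = r := fun r hr => S.fixR b r hr
  -- if `v` is congruent to `w + c + c'` or `w + c'` modulo `R`
  have hkey : ∀ x : X, b • x • θ = x • θ ∨ b • (x • θ + c') = x • θ + c' := by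
    intro x
    by_cases hx : x • θ ∈ cmR R (zpowers b)
    · exact Or.inl (hpt x hx)
    right
    by_cases hx' : h⁻¹ • x • θ ∈ cmR R (zpowers b)
    · -- `f(v) = 1`, `f'(v) = 0`
      have h1 := hB hx
      set r₁ := b • x • θ + x • θ + c with hr₁
      have e1 : b • x • θ = x • θ + c + r₁ := by
        rw [hr₁]
        calc b • x • θ = b • x • θ + (x • θ + x • θ) + (c + c) := by rw [S.two, S.two, add_zero, add_zero]
          _ = _ := by abel
      have h2 : h⁻¹ • (x • θ + c) ∉ cmR R (zpowers b) := by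
        rw [smul_add]
        intro hcon
        apply hcK'
        have e : h⁻¹ • c = h⁻¹ • x • θ + (h⁻¹ • x • θ + h⁻¹ • c) := by
          rw [← add_assoc, S.two, zero_add]
        rw [e]
        exact AddSubgroup.add_mem _ hx' hcon
      have h3 := hB' h2
      set r₂ := b' • (x • θ + c) + (x • θ + c) + c' with hr₂
      have e2 : b' • b • x • θ = x • θ + c' + (c + r₂ + r₁) := by
        rw [e1, smul_add, S.fixR b' r₁ h1, hr₂]
        calc b' • (x • θ + c) + r₁
            = b' • (x • θ + c) + ((x • θ + c) + (x • θ + c)) + (c' + c') + r₁ + (c + c) := by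
              rw [S.two, S.two, S.two, add_zero, add_zero, add_zero]
          _ = x • θ + c' + (c + (b' • (x • θ + c) + (x • θ + c) + c') + r₁) + (c + c) := by abel
          _ = _ := by rw [S.two, add_zero]
      have h4 : (b' * b * x) • θ ∈ cmR R (zpowers b) := by
        rw [mul_smul, mul_smul, e2]
        refine AddSubgroup.add_mem _ (hadd hx hc'K) (AddSubgroup.add_mem _ (AddSubgroup.add_mem _ hcK ?_) ?_)
        · exact hmem.2 (by rw [S.fixR b r₂ h3, S.two]; exact R.zero_mem)
        · exact hmem.2 (by rw [S.fixR b r₁ h1, S.two]; exact R.zero_mem)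
      have h5 := hpt _ h4
      rw [mul_smul, mul_smul, e2] at h5
      have h6 : b • (c + r₂ + r₁) = c + r₂ + r₁ := hfix_add (hfix_add hcf (hfixR _ h3)) (hfixR _ h1)
      have e3 : x • θ + c' = (x • θ + c' + (c + r₂ + r₁)) + (c + r₂ + r₁) := by
        rw [add_assoc _ (c + r₂ + r₁) (c + r₂ + r₁), S.two, add_zero]
      rw [e3]
      exact hfix_add h5 h6
    · -- `f(v) = 1 = f'(v)`
      have h1 := hB' hx'
      set r₁ := b' • x • θ + x • θ + c' with hr₁
      have e1 : b' • x • θ = x • θ + c' + r₁ := by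
        rw [hr₁]
        calc b' • x • θ = b' • x • θ + (x • θ + x • θ) + (c' + c') := by rw [S.two, S.two, add_zero, add_zero]
          _ = _ := by abel
      have h4 : (b' * x) • θ ∈ cmR R (zpowers b) := by
        rw [mul_smul, e1]
        refine AddSubgroup.add_mem _ (hadd hx hc'K) ?_
        exact hmem.2 (by rw [S.fixR b r₁ h1, S.two]; exact R.zero_mem)
      have h5 := hpt _ h4
      rw [mul_smul, e1] at h5
      have e3 : x • θ + c' = (x • θ + c' + r₁) + r₁ := by
        rw [add_assoc _ r₁ r₁, S.two, add_zero]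
      rw [e3]
      exact hfix_add h5 (hfixR _ h1)
  refine ⟨c', ?_⟩
  -- the subgroup `C_W(b) ∪ (C_W(b) + c')`
  let U : AddSubgroup W :=
    { carrier := {w | b • w = w ∨ b • (w + c') = w + c'}
      zero_mem' := Or.inl (smul_zero b)
      add_mem' := by
        rintro v w (hv | hv) (hw | hw)
        · exact Or.inl (hfix_add hv hw)
        · right
          rw [add_assoc]
          exact hfix_add hv hw
        · right
          have e : v + w + c' = (v + c') + w := by abel
          rw [e]
          exact hfix_add hv hw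
        · left
          have e : v + w = (v + c') + (w + c') := by
            calc v + w = v + w + (c' + c') := by rw [S.two, add_zero]
              _ = _ := by abel
          rw [e]
          exact hfix_add hv hw
      neg_mem' := by
        intro w hw
        have e : -w = w := neg_eq_of_add_eq_zero_left (S.two w)
        rw [e]
        exact hw }
  have hU : U = ⊤ := S.gen U (fun r hr => Or.inl (hfixR r hr)) hkey
  intro w
  have : w ∈ U := by rw [hU]; exact AddSubgroup.mem_top w
  exact this

/-- two cosets cover: the index is at most 2 -/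
theorem index_le_two_of (two : ∀ w : W, w + w = 0) {F : AddSubgroup W} {c' : W}
    (h : ∀ w : W, w ∈ F ∨ w + c' ∈ F) : F.index ≤ 2 := by
  have hs : Function.Surjective (fun i : Bool => if i then (QuotientAddGroup.mk 0 : W ⧸ F) else QuotientAddGroup.mk c') := by
    intro v
    obtain ⟨w, rfl⟩ := QuotientAddGroup.mk_surjective v
    rcases h w with hw | hw
    · refine ⟨true, ?_⟩
      simp only [if_true]
      rw [QuotientAddGroup.eq, neg_zero, zero_add]
      exact hw
    · refine ⟨false, ?_⟩
      simp only [Bool.false_eq_true, if_false]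
      rw [QuotientAddGroup.eq]
      have e : -c' + w = w + c' := by
        rw [neg_eq_of_add_eq_zero_left (two c'), add_comm]
      rw [e]
      exact hw
  have h1 := Nat.card_le_card_of_surjective _ hs
  have h2 : Nat.card Bool = 2 := by simp
  rw [h2] at h1
  exact h1

/-- **#23689 (2)-(4)** : an exact elementary abelian quadratic `E ≤ N`, `|E| ≥ 4`, with `m1`, contains an atom of `W / R`
of order at least 4. -/
theorem SwR.exists_atR (hML : ML.Final.MLK.{u, v}) (S : SwR R θ T N) {E : Subgroup X} (EN : E ≤ N)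
    (sq : ∀ e ∈ E, e * e = 1) (quad : ∀ a ∈ E, ∀ b ∈ E, ∀ w : W, a • (b • w + w) = b • w + w)
    (four : 4 ≤ Nat.card E) (off : (fxW E : AddSubgroup W).index ≤ Nat.card E)
    (min : ∀ C : Subgroup X, C ≤ E → C ≠ ⊥ → C ≠ E → Nat.card C < (fxW C : AddSubgroup W).index)
    (m1 : ∀ e ∈ E, ∀ x : X, e • x • θ + x • θ ∈ R → e • x • θ = x • θ) :
    (cmR R E = fxW E ∧ (cmR R E).index = Nat.card E) ∧ ∃ B ≤ E, AtR R N B := by
  have := S.finX
  have := S.finW
  have : Fact (Nat.Prime 2) := ⟨Nat.prime_two⟩
  have hE1 : E ≠ ⊥ := by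
    rintro rfl
    rw [Subgroup.card_bot] at four
    omega
  have hno : Nat.card E ≤ (cmR R E).index := S.no hML EN sq
  have hle : (fxW E : AddSubgroup W) ≤ cmR R E := fxW_le S.two E
  have hrel : (fxW E : AddSubgroup W).relIndex (cmR R E) * (cmR R E).index = (fxW E : AddSubgroup W).index :=
    AddSubgroup.relIndex_mul_index hle
  have hpos : 0 < (cmR R E).index := Nat.pos_of_ne_zero AddSubgroup.index_ne_zero_of_finite
  have hrel0 : (fxW E : AddSubgroup W).relIndex (cmR R E) ≠ 0 := by
    intro h
    rw [h, zero_mul] at hrel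
    exact AddSubgroup.index_ne_zero_of_finite hrel.symm
  have h1 : (cmR R E).index ≤ (fxW E : AddSubgroup W).index := by
    rw [← hrel]
    exact Nat.le_mul_of_pos_left _ (Nat.pos_of_ne_zero hrel0)
  have hex : (cmR R E).index = Nat.card E := le_antisymm (h1.trans off) hno
  have hrel1 : (fxW E : AddSubgroup W).relIndex (cmR R E) = 1 := by
    have h2 : (fxW E : AddSubgroup W).relIndex (cmR R E) * (cmR R E).index ≤ 1 * (cmR R E).index := by
      rw [hrel, one_mul, hex]
      exact off
    have h3 := Nat.le_of_mul_le_mul_right h2 hpos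
    omega
  have heq : cmR R E = fxW E := le_antisymm (AddSubgroup.relIndex_eq_one.1 hrel1) hle
  refine ⟨⟨heq, hex⟩, ?_⟩
  obtain ⟨B, hBE, hB1, hBex, hBat⟩ := exists_atom hE1 hex
    (fun C hC => S.no hML (hC.trans EN) fun c hc => sq c (hC hc))
  have hB2 : IsPGroup 2 B := S.N2.to_le (hBE.trans EN)
  have hB4 : 4 ≤ Nat.card B := by
    rcases card_cases hB2 hB1 with h2 | h4
    · exfalso
      obtain ⟨b, hbB, hb1, hgen⟩ := exists_gen_of_two h2
      have hBz : B = zpowers b := by
        refine le_antisymm (fun x hx => ?_) (by rw [zpowers_le]; exact hbB)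
        rcases hgen x hx with rfl | rfl
        · exact one_mem _
        · exact mem_zpowers _
      have hix : (cmR R (zpowers b)).index = 2 := by rw [← hBz, hBex, h2]
      obtain ⟨c', hc'⟩ := S.tw (sq b (hBE hbB)) hix (fun x hx => m1 b (hBE hbB) x hx)
      have hfx : ∀ w : W, b • w = w → w ∈ (fxW B : AddSubgroup W) := by
        intro w hw x hx
        rcases hgen x hx with rfl | rfl
        · exact one_smul _ w
        · exact hw
      have h3 : (fxW B : AddSubgroup W).index ≤ 2 := by
        refine index_le_two_of S.two (c' := c') fun w => ?_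
        rcases hc' w with h | h
        · exact Or.inl (hfx w h)
        · exact Or.inr (hfx _ h)
      have h4 : B ≠ E := by
        rintro rfl
        omega
      have h5 := min B hBE hB1 h4
      omega
    · exact h4
  refine ⟨B, hBE, ?_⟩
  exact
    { BN := hBE.trans EN
      sq := fun b hb => sq b (hBE hb)
      quad := by
        intro a ha b hb w
        rw [quad a (hBE ha) b (hBE hb) w, S.two]
        exact R.zero_mem
      four := hB4
      exact := hBex
      atom := hBat }

/-- the end: a faithful section with (LA) -/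
theorem SwR.exists_fs_of (hML : ML.Final.MLK.{u, v}) (S : SwR R θ T N) {E : Subgroup X} (EN : E ≤ N)
    (sq : ∀ e ∈ E, e * e = 1) (quad : ∀ a ∈ E, ∀ b ∈ E, ∀ w : W, a • (b • w + w) = b • w + w)
    (four : 4 ≤ Nat.card E) (off : (fxW E : AddSubgroup W).index ≤ Nat.card E)
    (min : ∀ C : Subgroup X, C ≤ E → C ≠ ⊥ → C ≠ E → Nat.card C < (fxW C : AddSubgroup W).index)
    (m1 : ∀ e ∈ E, ∀ x : X, e • x • θ + x • θ ∈ R → e • x • θ = x • θ) :
    ∃ (X' : Type u) (_ : Group X') (W' : Type v) (_ : AddCommGroup W') (_ : DistribMulAction X' W')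
      (R' : AddSubgroup W') (θ' : W') (T' B' : Subgroup X'), FsR R' θ' T' B' ∧ LaR R' θ' T' := by
  obtain ⟨_, B, _, hB⟩ := S.exists_atR hML EN sq quad four off min m1
  exact S.exists_fs hML hB

end Cfsg.Agent.Omega.FOne.QR
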