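import Cfsg.Agent.Omega.FOne.QR.Front
import Cfsg.Agent.Omega.FOne.QR.PsR

/-!
# (F1) for `q ≥ 4`, every stage (helper69)

`fOneR : MLK → EndPieces → FarB.FOneR`, `fOneB : MLK → EndPieces → NO3S.FOneB K` (over helper232's `front`, helper241's
`fOneB_of_R`, helper425's THEOREM A, helper728's nmax, helper854's `EndPieces`).
-/

set_option autoImplicit false

namespace Cfsg.Agent.Omega.FOne.QR

open Cfsg
open Cfsg.Agent.Omega.ML.Ex (EndPieces)

universe u

/-- **(F1), abstract form, `R` of any order.** -/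
theorem fOneR (hML : ML.Final.MLK.{u, u}) (hE : EndPieces.{u, u, u}) : NO3S.FarB.FOneR.{u} := by
  intro H W M _ _ _ _ _ T A V R π P
  obtain ⟨W', _, _, R', θ, N, B, S, hB⟩ := front hML P
  exact S.false hML hE hB

/-- **(F1) for `q ≥ 4`, every stage.** -/
theorem fOneB {K : Frame.Cls.{u}} (hML : ML.Final.MLK.{u, u}) (hE : EndPieces.{u, u, u}) : NO3S.FOneB K :=
  NO3S.FarB.fOneB_of_R hML (fOneR hML hE)

end Cfsg.Agent.Omega.FOne.QR
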