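import Cfsg.Agent.Omega.FOne.QR.Norm

/-!
# (F1), the K-route for `R` of any size: the section of the minimal overgroup (helper69)

* `stb R θ` : the stabiliser of `θ` modulo `R`; `StR R θ T` : a situation;
* `MinX.sec` : the minimal overgroup gives the situation `(X / K_X, W_n, θ_n)`;
* **`StR.exists_fs`** : a situation with an atom of order at least 4 in `O₂(C(θ))` gives `FsR` with (LA).
-/

set_option autoImplicit false
set_option linter.unusedSectionVars false
set_option linter.style.haveILetI false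

namespace Cfsg.Agent.Omega.FOne.QR

open Subgroup Cfsg Cfsg.Agent.ZN

universe u v

section defs

variable {X : Type u} [Group X] {W : Type v} [AddCommGroup W] [DistribMulAction X W]

/-- the stabiliser of `θ` modulo `R` -/
def stb (R : AddSubgroup W) (θ : W) : Subgroup X := Subgroup.closure {x | x • θ + θ ∈ R}

theorem mem_stb {R : AddSubgroup W} (b : Bs X R) {θ : W} {x : X} : x ∈ (stb R θ : Subgroup X) ↔ x • θ + θ ∈ R := by
  constructor
  · intro hx
    let Z : Subgroup X :=
      { carrier := {x | x • θ + θ ∈ R}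
        one_mem' := by
          change (1 : X) • θ + θ ∈ R
          rw [one_smul, b.two]; exact R.zero_mem
        mul_mem' := by
          intro g h hg hh
          change (g * h) • θ + θ ∈ R
          have e : (g * h) • θ + θ = g • (h • θ + θ) + (g • θ + θ) := by
            have h1 : g • θ + g • θ = 0 := b.two _
            rw [mul_smul, smul_add]
            calc g • h • θ + θ = g • h • θ + (g • θ + g • θ) + θ := by rw [h1, add_zero]
              _ = _ := by abel
          rw [e, b.fixR g _ hh]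
          exact R.add_mem hh hg
        inv_mem' := by
          intro h hh
          change h⁻¹ • θ + θ ∈ R
          have e : h⁻¹ • θ + θ = h⁻¹ • (h • θ + θ) := by
            rw [smul_add, inv_smul_smul, add_comm]
          rw [e, b.fixR _ _ hh]
          exact hh }
    have h1 : (stb R θ : Subgroup X) ≤ Z := by
      rw [stb, closure_le]
      exact fun x hx => hx
    exact h1 hx
  · exact fun hx => subset_closure hx

/-- A situation. -/
structure StR (R : AddSubgroup W) (θ : W) (T : Subgroup X) : Prop where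
  known : IsKGroupWith IsKnownSimple' X
  finX : Finite X
  finW : Finite W
  two : ∀ w : W, w + w = 0
  fixR : ∀ x : X, ∀ r ∈ R, x • r = r
  faith : ∀ x : X, (∀ w : W, x • w + w ∈ R) → x = 1
  T2 : IsPGroup 2 T
  syl : ¬ 2 ∣ T.index
  fixT : ∀ w : W, (∀ t ∈ T, t • w = w) → w ∈ R
  θR : θ ∉ R
  Tθ : ∀ t ∈ T, t • θ + θ ∈ R
  gen : ∀ U : AddSubgroup W, R ≤ U → (∀ x : X, x • θ ∈ U) → U = ⊤

theorem SwR.st {R : AddSubgroup W} {θ : W} {T N : Subgroup X} (S : SwR R θ T N) : StR R θ T :=
  ⟨S.known, S.finX, S.finW, S.two, S.fixR, S.faith, S.T2, S.syl, S.fixT, S.θR, S.Tθ, S.gen⟩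

theorem StR.bs {R : AddSubgroup W} {θ : W} {T : Subgroup X} (S : StR R θ T) : Bs X R := ⟨S.two, S.fixR⟩

/-- the situation with `N = O₂(C(θ))` -/
theorem StR.sw {R : AddSubgroup W} {θ : W} {T : Subgroup X} (S : StR R θ T) : SwR R θ T (o2 (stb R θ)) where
  known := S.known
  finX := S.finX
  finW := S.finW
  two := S.two
  fixR := S.fixR
  faith := S.faith
  T2 := S.T2
  syl := S.syl
  fixT := S.fixT
  θR := S.θR
  Tθ := S.Tθ
  gen := S.gen
  N2 := isPGroup_o2 _
  Nθ := fun n hn => (mem_stb S.bs).1 (o2_le _ hn)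
  Nn := fun x hx n hn => (mem_normalizer_iff.1 (le_normalizer_o2 _ ((mem_stb S.bs).2 hx)) n).1 hn

/-- `N ≤ O₂(C(θ))` -/
theorem SwR.N_le {R : AddSubgroup W} {θ : W} {T N : Subgroup X} (S : SwR R θ T N) : N ≤ o2 (stb R θ) := by
  refine le_o2 (fun n hn => (mem_stb S.bs).2 (S.Nθ n hn)) S.N2 fun x hx => ?_
  have hx' := (mem_stb S.bs).1 hx
  have hxi := (mem_stb S.bs).1 ((stb R θ).inv_mem hx)
  rw [mem_normalizer_iff]
  intro n
  constructor
  · exact S.Nn x hx' n
  · intro hn
    have := S.Nn x⁻¹ hxi _ hn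
    have e : x⁻¹ * (x * n * x⁻¹) * x⁻¹⁻¹ = n := by group
    rwa [e] at this

/-- every atom of `O₂(C(θ))` is in `O₂(Q)`, `T ≤ Q < X` -/
def LaR (R : AddSubgroup W) (θ : W) (T : Subgroup X) : Prop :=
  ∀ Z : Subgroup X, (∀ x, x ∈ Z ↔ x • θ + θ ∈ R) → ∀ B₁ : Subgroup X, AtR R (o2 Z) B₁ →
    ∀ Q : Subgroup X, T ≤ Q → Q ≠ ⊤ → B₁ ≤ o2 Q

end defs

variable {H : Type u} [Group H] {W : Type v} [AddCommGroup W] [DistribMulAction H W]
  {R : AddSubgroup W} {θ : W} {T N X B : Subgroup H}

/-- **The section of the minimal overgroup.** -/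
theorem min_sec (hML : ML.Final.MLK.{u, v}) (S : SwR R θ T N) (M : MinX R θ T N S.bs X B) :
    ∃ (X' : Type u) (_ : Group X') (W' : Type v) (_ : AddCommGroup W') (_ : DistribMulAction X' W')
      (R' : AddSubgroup W') (θ' : W') (T' B' : Subgroup X'), StR R' θ' T' ∧ AtR R' (o2 (stb R' θ')) B' ∧
        Nat.card X' ≤ Nat.card X := by
  classical
  have hfX := S.finX
  have hfW := S.finW
  have b := S.bs
  have two := S.two
  set K := kk S.bs (sp R X θ) with hK
  obtain ⟨s, hsU, hsX, hscl⟩ := min_exists_vec S M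
  set θn := θ + s with hθn
  have hθ : θ = θn + s := by rw [hθn, add_assoc, two, add_zero]
  set U := sp R X θn with hU
  have hBX := min_BX S M
  -- `K ∩ X` fixes `U`
  have hKX : ∀ x ∈ X, ∀ k ∈ X, k ∈ K → x * k * x⁻¹ ∈ K := fun x hx k _ hk => kk_norm S.bs hx hk
  have hfix1 : ∀ k ∈ X, k ∈ K → k • θn = θn := by
    intro k hk hkK
    let C : AddSubgroup W :=
      { carrier := {w | k • w = w}
        zero_mem' := smul_zero k
        add_mem' := by
          intro v w hv hw
          change k • (v + w) = v + w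
          rw [smul_add, hv, hw]
        neg_mem' := by
          intro w hw
          change k • (-w) = -w
          rw [smul_neg, hw] }
    have h1 : AddSubgroup.closure ((R : Set W) ∪ {w | ∃ l ∈ LX X B, w = l • θ + θ}) ≤ C := by
      rw [AddSubgroup.closure_le]
      rintro w (hw | ⟨l, hl, rfl⟩)
      · exact S.fixR k w hw
      · exact min_thmA S M hML hk hkK hl (mem_sp R X θ)
    exact h1 hscl
  have hfix : ∀ k ∈ X, k ∈ K → ∀ u ∈ U, k • u = u := by
    intro k hk hkK u hu
    let C : AddSubgroup W :=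
      { carrier := {w | k • w = w}
        zero_mem' := smul_zero k
        add_mem' := by
          intro v w hv hw
          change k • (v + w) = v + w
          rw [smul_add, hv, hw]
        neg_mem' := by
          intro w hw
          change k • (-w) = -w
          rw [smul_neg, hw] }
    have h1 : U ≤ C := by
      refine sp_le (fun r hr => S.fixR k r hr) fun x hx => ?_
      change k • x • θn = x • θn
      have h2 := hKX x⁻¹ (X.inv_mem hx) k hk hkK
      rw [inv_inv] at h2
      have h3 := hfix1 _ (X.mul_mem (X.mul_mem (X.inv_mem hx) hk) hx) h2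
      have e : k • x • θn = x • ((x⁻¹ * k * x) • θn) := by
        rw [mul_smul, mul_smul, smul_inv_smul]
      rw [e, h3]
    exact h1 hu
  -- the kernel on `U / R`
  have hker : ∀ x ∈ X, (∀ u ∈ U, x • u + u ∈ R) → x ∈ K := by
    intro x hx hxU
    rw [hK, mem_kk_sp]
    intro y hy
    have h1 := hxU _ (smul_mem_sp' R θn hy)
    have h2 := hsX _ (X.mul_mem hx hy)
    have h3 := hsX _ hy
    have e : x • y • θ + y • θ = (x • y • θn + y • θn) + (((x * y) • s + s) + (y • s + s)) := by
      have h4 := two s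
      rw [hθ, smul_add, smul_add, mul_smul]
      calc x • y • θn + x • y • s + (y • θn + y • s) =
          x • y • θn + x • y • s + (y • θn + y • s) + 0 := by rw [add_zero]
        _ = x • y • θn + x • y • s + (y • θn + y • s) + (s + s) := by rw [h4]
        _ = _ := by abel
    rw [e]
    exact R.add_mem h1 (R.add_mem h2 h3)
  have hstab : ∀ x ∈ X, (x • θn + θn ∈ R ↔ x • θ + θ ∈ R) := by
    intro x hx
    have h2 := hsX x hx
    have e : x • θ + θ = (x • θn + θn) + (x • s + s) := by
      conv_lhs => rw [hθ]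
      rw [smul_add]; abel
    have e2 : x • θn + θn = (x • θ + θ) + (x • s + s) := by
      rw [hθn, smul_add]; abel
    constructor
    · intro h; rw [e]; exact R.add_mem h h2
    · intro h; rw [e2]; exact R.add_mem h h2
  have hθnR : θn ∉ R := by
    intro h
    apply M.nt
    intro c hc
    have hXθ : ∀ x ∈ X, x • θ + θ ∈ R := by
      intro x hx
      rw [← hstab x hx, S.fixR x _ h, two]
      exact R.zero_mem
    rw [mem_kk_sp]
    intro x hx
    have h1 := hXθ _ (X.mul_mem (hBX hc) hx)
    have h2 := hXθ _ hx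
    have e : c • x • θ + x • θ = ((c * x) • θ + θ) + (x • θ + θ) := by
      have h4 := two θ
      rw [mul_smul]
      calc c • x • θ + x • θ = c • x • θ + x • θ + (θ + θ) := by rw [h4, add_zero]
        _ = _ := by abel
    rw [e]
    exact R.add_mem h1 h2
  -- `W = U + C(B)`
  have hd := (S.dich hML M.TX M.at_).resolve_left M.nt
  have hsup : U ⊔ cmR R B = ⊤ := by
    rw [eq_top_iff, ← hd.2]
    refine sup_le (sp_le ((le_sp R X θn).trans le_sup_left) fun x hx => ?_) le_sup_right
    have h1 : x • θn ∈ U ⊔ cmR R B := (le_sup_left : U ≤ U ⊔ cmR R B) (smul_mem_sp' R θn hx)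
    have h2 : x • s ∈ U ⊔ cmR R B := by
      have h3 : s ∈ cmR R B := fun c hc => hsX c (hBX hc)
      have h4 : x • s + s ∈ U := le_sp R X θn (hsX x hx)
      have h5 := (U ⊔ cmR R B).add_mem ((le_sup_left : U ≤ U ⊔ cmR R B) h4) ((le_sup_right : _ ≤ U ⊔ cmR R B) h3)
      rwa [add_assoc, two, add_zero] at h5
    have e : x • θ = x • θn + x • s := by
      conv_lhs => rw [hθ]
      rw [smul_add]
    rw [e]
    exact (U ⊔ cmR R B).add_mem h1 h2
  have hidx : ∀ C ≤ B, (cmR R C).relIndex U = (cmR R C).index := by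
    intro C hC
    have h1 : U ⊔ cmR R C = ⊤ := by
      rw [eq_top_iff, ← hsup]
      exact sup_le le_sup_left ((cmR_anti hC).trans le_sup_right)
    have h2 : (cmR R C).relIndex (U ⊔ cmR R C) = (cmR R C).relIndex U := AddSubgroup.relIndex_sup_right _ _
    rw [← h2, h1, AddSubgroup.relIndex_top_right]
  -- the action of `X` on `U`
  have hUX : ∀ x ∈ X, ∀ u ∈ U, x • u ∈ U := fun x hx u hu => smul_mem_sp S.bs hx hu
  letI actU : DistribMulAction X U :=
    { smul := fun x u => ⟨(x : H) • (u : W), hUX x x.2 u u.2⟩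
      one_smul := fun u => Subtype.ext (one_smul H (u : W))
      mul_smul := fun x y u => Subtype.ext (mul_smul (x : H) (y : H) (u : W))
      smul_zero := fun x => Subtype.ext (smul_zero (x : H))
      smul_add := fun x u v => Subtype.ext (smul_add (x : H) (u : W) (v : W)) }
  have hsm : ∀ (x : X) (u : U), ((x • u : U) : W) = (x : H) • (u : W) := fun _ _ => rfl
  let K' : Subgroup X := K.subgroupOf X
  haveI hKn : K'.Normal := ⟨fun k hk x => hKX x x.2 k k.2 hk⟩
  have hle : K' ≤ (DistribMulAction.toAddMonoidEnd X U).ker := by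
    intro k hk
    rw [MonoidHom.mem_ker]
    ext u
    exact hfix k k.2 hk u u.2
  letI actQ : DistribMulAction (X ⧸ K') U :=
    DistribMulAction.compHom U (QuotientGroup.lift K' (DistribMulAction.toAddMonoidEnd X U) hle)
  let π : X →* X ⧸ K' := QuotientGroup.mk' K'
  have hπ : Function.Surjective π := QuotientGroup.mk'_surjective K'
  have hsq : ∀ (x : X) (u : U), π x • u = x • u := fun _ _ => rfl
  have hcoe : ∀ (x : X) (u : U), ((π x • u : U) : W) = (x : H) • (u : W) := fun _ _ => rfl
  have hπ1 : ∀ x : X, π x = 1 ↔ (x : H) ∈ K := fun x => QuotientGroup.eq_one_iff x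
  -- the data
  let R' : AddSubgroup U := R.addSubgroupOf U
  have hR' : ∀ u : U, u ∈ R' ↔ (u : W) ∈ R := fun _ => Iff.rfl
  let θ' : U := ⟨θn, mem_sp R X θn⟩
  let T' : Subgroup (X ⧸ K') := (T.subgroupOf X).map π
  let B' : Subgroup (X ⧸ K') := (B.subgroupOf X).map π
  have hinjB : ∀ x : X, (x : H) ∈ B → π x = 1 → x = 1 := by
    intro x hx h1
    have h2 : (x : H) ∈ B ⊓ K := ⟨hx, (hπ1 x).1 h1⟩
    rw [hd.1, mem_bot] at h2
    exact Subtype.ext h2
  have hst : StR R' θ' T' := by
    refine
      { known := ?_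
        finX := inferInstance
        finW := inferInstance
        two := fun w => Subtype.ext (two w)
        fixR := ?_
        faith := ?_
        T2 := (S.T2.of_equiv (subgroupOfEquivOfLe M.TX).symm).map π
        syl := ?_
        fixT := ?_
        θR := hθnR
        Tθ := ?_
        gen := ?_ }
    · exact ML.Final.kgroup_of_surj (ML.Final.kgroup_of_surj S.known X (MonoidHom.id X) fun x => ⟨x, rfl⟩)
        (⊤ : Subgroup X) (π.comp (⊤ : Subgroup X).subtype) (by
          intro q
          obtain ⟨x, rfl⟩ := hπ q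
          exact ⟨⟨x, mem_top x⟩, rfl⟩)
    · intro q r hr
      obtain ⟨x, rfl⟩ := hπ q
      exact Subtype.ext (S.fixR x _ hr)
    · intro q hq
      obtain ⟨x, rfl⟩ := hπ q
      rw [hπ1]
      exact hker x x.2 fun u hu => hq ⟨u, hu⟩
    · intro h2
      have h3 : (T.subgroupOf X).index = T.relIndex X := rfl
      have h4 := index_map_dvd (T.subgroupOf X) hπ
      rw [h3] at h4
      exact S.sylX M.TX (h2.trans h4)
    · intro w hw
      refine S.fixT w fun t ht => ?_
      have h1 := hw (π ⟨t, M.TX ht⟩) ⟨⟨t, M.TX ht⟩, ht, rfl⟩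
      exact congrArg Subtype.val h1
    · rintro _ ⟨t, ht, rfl⟩
      have h1 := (hstab t t.2).2 (S.Tθ t ht)
      exact h1
    · intro V hV hVx
      rw [eq_top_iff]
      rintro ⟨u, hu⟩ -
      have h1 : U ≤ V.map U.subtype := by
        refine sp_le ?_ ?_
        · intro r hr
          exact ⟨⟨r, le_sp R X θn hr⟩, hV hr, rfl⟩
        · intro x hx
          exact ⟨_, hVx (π ⟨x, hx⟩), rfl⟩
      obtain ⟨v, hv, e⟩ := h1 hu
      have : v = ⟨u, hu⟩ := Subtype.ext e
      rwa [this] at hv
  have hcm : ∀ C : Subgroup H, C ≤ X → cmR R' ((C.subgroupOf X).map π) = (cmR R C).addSubgroupOf U := by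
    intro C hC
    ext u
    rw [AddSubgroup.mem_addSubgroupOf]
    constructor
    · intro hu c hc
      exact hu (π ⟨c, hC hc⟩) ⟨⟨c, hC hc⟩, hc, rfl⟩
    · rintro hu _ ⟨c, hc, rfl⟩
      exact hu c hc
  have hcard : ∀ C : Subgroup H, C ≤ B → Nat.card ((C.subgroupOf X).map π : Subgroup (X ⧸ K')) = Nat.card C := by
    intro C hC
    have h1 : Function.Injective (π.subgroupMap (C.subgroupOf X)) := by
      rw [injective_iff_map_eq_one]
      rintro ⟨x, hx⟩ h1
      have h2 : π x = 1 := congrArg Subtype.val h1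
      exact Subtype.ext (hinjB x (hC hx) h2)
    rw [← Nat.card_congr (Equiv.ofBijective _ ⟨h1, π.subgroupMap_surjective _⟩)]
    exact Nat.card_congr (subgroupOfEquivOfLe (hC.trans hBX)).toEquiv
  have hat : AtR R' (o2 (stb R' θ')) B' := by
    refine
      { BN := ?_
        sq := ?_
        quad := ?_
        four := ?_
        exact := ?_
        atom := ?_ }
    · -- the image of `N ∩ X`
      have h1 : ((N ⊓ X).subgroupOf X).map π ≤ o2 (stb R' θ') := by
        refine le_o2 ?_ ?_ ?_
        · rintro _ ⟨n, hn, rfl⟩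
          rw [mem_stb hst.bs]
          exact (hstab n n.2).2 (S.Nθ n hn.1)
        · exact ((S.N2.to_le inf_le_left).of_equiv (subgroupOfEquivOfLe inf_le_right).symm).map π
        · intro q hq
          rw [mem_stb hst.bs] at hq
          obtain ⟨x, rfl⟩ := hπ q
          have hx1 : (x : H) • θ + θ ∈ R := (hstab x x.2).1 hq
          have hx2 : ((x⁻¹ : X) : H) • θ + θ ∈ R := by
            have h2 := (stb R θ).inv_mem ((mem_stb S.bs).2 hx1)
            exact (mem_stb S.bs).1 h2
          rw [mem_normalizer_iff]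
          intro g
          constructor
          · rintro ⟨n, hn, rfl⟩
            refine ⟨x * n * x⁻¹, ⟨S.Nn x hx1 n hn.1, (x * n * x⁻¹).2⟩, ?_⟩
            rw [map_mul, map_mul, map_inv]
          · rintro ⟨n, hn, e⟩
            refine ⟨x⁻¹ * n * x, ⟨?_, (x⁻¹ * n * x).2⟩, ?_⟩
            · have h2 := S.Nn _ hx2 n hn.1
              have e2 : ((x⁻¹ * n * x : X) : H) = ((x⁻¹ : X) : H) * n * ((x⁻¹ : X) : H)⁻¹ := by
                simp
              change ((x⁻¹ * n * x : X) : H) ∈ N
              rw [e2]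
              exact h2
            · rw [map_mul, map_mul, map_inv, e]
              group
      refine le_trans ?_ h1
      refine Subgroup.map_mono ?_
      intro x hx
      exact ⟨M.at_.BN hx, x.2⟩
    · rintro _ ⟨x, hx, rfl⟩
      rw [← map_mul]
      have h1 : x * x = 1 := Subtype.ext (M.at_.sq x hx)
      rw [h1, map_one]
    · rintro _ ⟨x, hx, rfl⟩ _ ⟨y, hy, rfl⟩ w
      exact M.at_.quad x hx y hy w
    · rw [hcard B le_rfl]
      exact M.at_.four
    · rw [hcm B hBX, hcard B le_rfl]
      change (cmR R B).relIndex U = _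
      rw [hidx B le_rfl, M.at_.exact]
    · intro C hC hC1 hCB
      -- the preimage of `C` in `B`
      let C₀ : Subgroup H := (((C.comap π) ⊓ (B.subgroupOf X))).map X.subtype
      have hC₀B : C₀ ≤ B := by
        rintro _ ⟨x, hx, rfl⟩
        exact hx.2
      have hC₀ : (C₀.subgroupOf X).map π = C := by
        apply le_antisymm
        · rintro _ ⟨x, hx, rfl⟩
          obtain ⟨y, hy, e⟩ := hx
          have : y = x := Subtype.ext e
          rw [← this]
          exact hy.1
        · intro c hc
          obtain ⟨x, hx, e⟩ := hC hc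
          refine ⟨x, ⟨x, ⟨?_, hx⟩, rfl⟩, e⟩
          change π x ∈ C
          rw [e]; exact hc
      rw [← hC₀, hcard C₀ hC₀B, hcm C₀ (hC₀B.trans hBX)]
      change _ < (cmR R C₀).relIndex U
      rw [hidx C₀ hC₀B]
      refine M.at_.atom C₀ hC₀B ?_ ?_
      · intro h
        apply hC1
        rw [← hC₀, h, eq_bot_iff]
        rintro _ ⟨x, hx, rfl⟩
        have h2 : x = 1 := Subtype.ext (mem_bot.1 (show (x : H) ∈ (⊥ : Subgroup H) from hx))
        rw [mem_bot, h2, map_one]
      · intro h
        apply hCB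
        rw [← hC₀, h]
  refine ⟨X ⧸ K', inferInstance, U, inferInstance, actQ, R', θ', T', B', hst, hat, ?_⟩
  exact Nat.card_le_card_of_surjective π hπ

/-- **A situation with an atom of order at least 4 in `O₂(C(θ))` gives the faithful section with (LA).** -/
theorem exists_fs (hML : ML.Final.MLK.{u, v}) (n : ℕ) : ∀ (H : Type u) [Group H] (W : Type v) [AddCommGroup W]
    [DistribMulAction H W] (R : AddSubgroup W) (θ : W) (T B : Subgroup H), Nat.card H = n → StR R θ T →
    AtR R (o2 (stb R θ)) B →
    ∃ (X' : Type u) (_ : Group X') (W' : Type v) (_ : AddCommGroup W') (_ : DistribMulAction X' W')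
      (R' : AddSubgroup W') (θ' : W') (T' B' : Subgroup X'), FsR R' θ' T' B' ∧ LaR R' θ' T' := by
  induction n using Nat.strong_induction_on with
  | _ n ih =>
    intro H _ W _ _ R θ T B hn St hB
    classical
    have hfX := St.finX
    have S := St.sw
    by_cases hall : ∀ Q : Subgroup H, T ≤ Q → Q ≠ ⊤ → ∀ C, AtR R (o2 (stb R θ)) C → C ≤ kk St.bs (sp R Q θ)
    · have hlow : ∀ C, AtR R (o2 (stb R θ)) C → ∀ Q : Subgroup H, T ≤ Q → Q ≠ ⊤ → C ≤ o2 Q :=
        fun C hC Q hTQ hQ => S.le_o2_of_le hTQ hC.BN (hall Q hTQ hQ C hC)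
      refine ⟨H, inferInstance, W, inferInstance, inferInstance, R, θ, T, B, ?_, ?_⟩
      · exact
          { known := St.known, finX := St.finX, finW := St.finW, two := St.two, fixR := St.fixR, faith := St.faith
            T2 := St.T2, syl := St.syl, fixT := St.fixT, θR := St.θR, Tθ := St.Tθ, gen := St.gen
            BT := hB.BN.trans S.NT, sq := hB.sq, quad := hB.quad, four := hB.four, exact := hB.exact
            atom := hB.atom, low := hlow B hB }
      · intro Z hZ B₁ hB₁ Q hTQ hQ
        have e : Z = stb R θ := by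
          ext x
          rw [hZ, mem_stb St.bs]
        rw [e] at hB₁
        exact hlow B₁ hB₁ Q hTQ hQ
    · push Not at hall
      obtain ⟨Q, hTQ, hQ, C, hC, hCQ⟩ := hall
      have hfin : Finite (Subgroup H) := inferInstance
      obtain ⟨X, hX⟩ := (Set.toFinite {X : Subgroup H | T ≤ X ∧ X ≠ ⊤ ∧
        ∃ C, AtR R (o2 (stb R θ)) C ∧ ¬ C ≤ kk St.bs (sp R X θ)}).exists_minimal ⟨Q, hTQ, hQ, C, hC, hCQ⟩
      obtain ⟨hTX, hXt, C', hC', hCX⟩ := hX.prop
      have M : MinX R θ T (o2 (stb R θ)) S.bs X C' := by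
        refine ⟨hTX, hC', hCX, fun Y hTY hYX hne D hD => ?_⟩
        by_contra hcon
        refine hne (le_antisymm hYX (hX.le_of_le (y := Y) ⟨hTY, ?_, D, hD, hcon⟩ hYX))
        intro h
        rw [h, top_le_iff] at hYX
        exact hXt hYX
      obtain ⟨X', i1, W', i2, i3, R', θ', T', B', h1, h2, h3⟩ := min_sec hML S M
      have hlt : Nat.card X < Nat.card H := by
        have h4 := X.card_mul_index
        have h5 : X.index ≠ 1 := fun h => hXt (index_eq_one.1 h)
        have h6 : X.index ≠ 0 := index_ne_zero_of_finite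
        have h7 : 0 < Nat.card X := Nat.card_pos
        have h8 : 2 ≤ X.index := by omega
        have h9 : Nat.card X * 2 ≤ Nat.card H := by rw [← h4]; exact Nat.mul_le_mul_left _ h8
        omega
      exact ih (Nat.card X') (by omega) X' W' R' θ' T' B' rfl h1 h2

/-- the same from `SwR` -/
theorem SwR.exists_fs (hML : ML.Final.MLK.{u, v}) (S : SwR R θ T N) (hB : AtR R N B) :
    ∃ (X' : Type u) (_ : Group X') (W' : Type v) (_ : AddCommGroup W') (_ : DistribMulAction X' W')
      (R' : AddSubgroup W') (θ' : W') (T' B' : Subgroup X'), FsR R' θ' T' B' ∧ LaR R' θ' T' :=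
  QR.exists_fs hML _ H W R θ T B rfl S.st
    ⟨hB.BN.trans S.N_le, hB.sq, hB.quad, hB.four, hB.exact, hB.atom⟩

end Cfsg.Agent.Omega.FOne.QR
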